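import Groth.Agent.FinPushLib.Devissage
import Groth.Agent.NApproxLib.ProperModel
import Groth.Agent.PBCLib.LimitStage
import Groth.Agent.PBCLib.Descend
import Groth.Agent.S0134

/-!
# Constructibility of proper direct images over an arbitrary base

A constructible sheaf on a limit is a retract of the inverse image of a constructible sheaf on a stage, so
proper base change reduces the statement to schemes of finite type over the integers.
-/

set_option autoImplicit false
set_option backward.isDefEq.respectTransparency false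
set_option backward.isDefEq.respectTransparency.types false
set_option linter.style.haveILetI false
set_option linter.unusedSectionVars false
set_option maxHeartbeats 1000000
set_option synthInstance.maxHeartbeats 400000

universe u

open CategoryTheory CategoryTheory.Limits AlgebraicGeometry Opposite
open Groth.Agent.EtLimLib

attribute [local instance] Groth.Agent.S0101.result Groth.Agent.EtLimLib.hasColimits

noncomputable section

namespace Groth.Agent.FinPushLib

/-- A retract of a constructible sheaf is constructible. -/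
theorem isConstructible_of_retract {X : Scheme.{u}} {A B : EtCoh.Ab X} (h : Retract A B)
    (hB : EtPBC.IsConstructible B) : EtPBC.IsConstructible A := by
  let φ : B ⟶ B := 𝟙 B - h.r ≫ h.i
  have hi : h.i ≫ φ = 0 := by simp [φ, Preadditive.comp_sub]
  have hk : kernel.ι φ ≫ h.r ≫ h.i = kernel.ι φ := by
    have := kernel.condition φ
    simp only [φ, Preadditive.comp_sub, Category.comp_id, sub_eq_zero] at this
    exact this.symm
  let e : A ≅ kernel φ :=
    { hom := kernel.lift φ h.i hi
      inv := kernel.ι φ ≫ h.r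
      hom_inv_id := by rw [kernel.lift_ι_assoc, h.retract]
      inv_hom_id := by
        rw [← cancel_mono (kernel.ι φ), Category.assoc, kernel.lift_ι, Category.assoc, hk, Category.id_comp] }
  exact FLCLib.isConstructible_of_iso e.symm (FLCLib.isConstructible_kernel_cokernel φ hB hB).1

/-- A constructible sheaf on a limit is a retract of the inverse image of a constructible sheaf on a stage. -/
theorem exists_retract_stage {ι : Type u} [Preorder ι] [Nonempty ι] [IsDirected ι (· ≤ ·)] (S : Sys ι)
    [CompactSpace S.c.pt] [QuasiSeparatedSpace S.c.pt] (F : EtCoh.Ab S.c.pt) (hF : EtPBC.IsConstructible F) :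
    ∃ (i : ι) (G : EtCoh.Ab (S.X i)) (_ : EtPBC.IsConstructible G),
      Nonempty (Retract F ((EtCoh.pull (S.u i)).obj G)) := by
  obtain ⟨n, hn, hFn⟩ := FLCLib.exists_killedBy hF
  obtain ⟨hc⟩ := PBCLib.nonempty_isColimit_pushColimCocone (S := S) F
  haveI : PreservesColimitsOfShape ι (coyoneda.obj (op F)) := FLCLib.preservesColimitsOfShape_coyoneda hF
  obtain ⟨i, s, hs⟩ := Types.jointly_surjective _ (isColimitOfPreserves (coyoneda.obj (op F)) hc) (𝟙 F)
  let H := (EtCoh.push (S.u i)).obj F
  have hH : EtCoh.KilledBy n H := CompBCLib.killedBy_push (S.u i) hFn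
  haveI : CompactSpace (S.X i) := S.qc _
  haveI : QuasiSeparatedSpace (S.X i) := S.qs _
  obtain ⟨J, _, _, D, c, hcD, hD, ⟨e⟩⟩ :=
    Groth.Agent.S0134.result (S.X i) H (PBCLib.isTorsion_of_killedBy' hn hH)
  haveI : PreservesColimitsOfSize.{u + 1, u + 1} (EtCoh.pull (S.u i)) :=
    (EtCoh.pullPushAdj (S.u i)).leftAdjoint_preservesColimits
  haveI : PreservesColimitsOfShape J (coyoneda.obj (op F)) := FLCLib.preservesColimitsOfShape_coyoneda hF
  let Φ := EtCoh.pull (S.u i) ⋙ coyoneda.obj (op F)
  let s' : F ⟶ (EtCoh.pull (S.u i)).obj c.pt := s ≫ (EtCoh.pull (S.u i)).map e.inv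
  obtain ⟨j, t, ht⟩ := Types.jointly_surjective _ (isColimitOfPreserves Φ hcD) s'
  refine ⟨i, D.obj j, hD j, ⟨⟨t, (EtCoh.pull (S.u i)).map (c.ι.app j ≫ e.hom) ≫
    (EtCoh.pullPushAdj (S.u i)).counit.app F, ?_⟩⟩⟩
  have ht' : t ≫ (EtCoh.pull (S.u i)).map (c.ι.app j) = s ≫ (EtCoh.pull (S.u i)).map e.inv := ht
  have hs' : s ≫ (EtCoh.pullPushAdj (S.u i)).counit.app F = 𝟙 F := by
    refine Eq.trans ?_ hs
    show s ≫ _ = s ≫ (pushCocone S F).mate (pushSys S F) i
    rw [pushCocone_mate]
  rw [Functor.map_comp, Category.assoc, reassoc_of% ht', ← Functor.map_comp_assoc, e.inv_hom_id]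
  refine Eq.trans ?_ hs'
  exact congrArg (fun m => s ≫ m) ((congrArg (fun m => m ≫ _) ((EtCoh.pull (S.u i)).map_id _)).trans
    (Category.id_comp _))

/-- Proper morphisms of finite presentation over quasi-compact quasi-separated bases. -/
theorem pushConstr_of_lfp
    (H : ∀ {X S : Scheme.{u}} [IsNoetherian S] (f : X ⟶ S) [IsProper f] (q : ℕ), PushConstr f q)
    {X S : Scheme.{u}} (f : X ⟶ S) [IsProper f] [LocallyOfFinitePresentation f] [CompactSpace S]
    [QuasiSeparatedSpace S] (q : ℕ) : PushConstr f q := by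
  intro F hF
  haveI : CompactSpace X := QuasiCompact.compactSpace_of_compactSpace f
  haveI : QuasiSeparatedSpace X := quasiSeparatedSpace_of_quasiSeparated f
  obtain ⟨S₀, qS, hqS, hcS, hfS⟩ := NApproxLib.hasFTZ S
  haveI := hqS
  haveI := hcS
  haveI := NApproxLib.isLocallyNoetherian_of_isFTZ hfS
  obtain ⟨hS⟩ := NApproxLib.nonempty_isLimit_cone qS
  haveI : ∀ i, CompactSpace ((NApproxLib.sys qS).obj i) := fun i => NApproxLib.compactSpace_stage qS i.unop
  haveI : ∀ i, QuasiSeparatedSpace ((NApproxLib.sys qS).obj i) := fun i =>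
    NApproxLib.quasiSeparatedSpace_stage qS i.unop
  haveI : ∀ {i k} (a : i ⟶ k), IsAffineHom ((NApproxLib.sys qS).map a) := fun a => inferInstance
  haveI : CompactSpace (NApproxLib.cone qS).pt := ‹CompactSpace S›
  haveI : QuasiSeparatedSpace (NApproxLib.cone qS).pt := ‹QuasiSeparatedSpace S›
  let fP : X ⟶ (NApproxLib.cone qS).pt := f
  haveI : IsProper fP := ‹IsProper f›
  haveI : LocallyOfFinitePresentation fP := ‹LocallyOfFinitePresentation f›
  obtain ⟨i₀, G₀, g, q₀, hGc, hGqs, hg, hsq⟩ :=
    NApproxLib.exists_proper_stage_model (NApproxLib.sys qS) (NApproxLib.cone qS) hS fP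
  haveI := hGc
  haveI := hGqs
  haveI := hg
  obtain ⟨hV⟩ := FlatStage.nonempty_isLimit_vCone (NApproxLib.sys qS) (NApproxLib.cone qS) i₀ g hsq hS
  let E := AffLim.baseChange (NApproxLib.sys qS) i₀ g
  let cE := FlatStage.vCone (NApproxLib.sys qS) (NApproxLib.cone qS) i₀ g hsq
  obtain ⟨α, _, _, _, Fd, _⟩ := IsFiltered.exists_directed.{u} (Over i₀)ᵒᵖ
  let Gd : αᵒᵖ ⥤ Over i₀ := Fd.op ⋙ unopUnop (Over i₀)
  haveI : (unopUnop (Over i₀)).Initial := inferInstance
  haveI : Gd.Initial := inferInstanceAs (Fd.op ⋙ unopUnop (Over i₀)).Initial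
  haveI : ∀ {k l : Over i₀} (a : k ⟶ l), IsAffineHom (E.map a) := fun a => inferInstance
  haveI hpr : ∀ k : Over i₀, IsProper (pullback.snd g ((NApproxLib.sys qS).map k.hom)) := fun k =>
    MorphismProperty.pullback_snd _ _ hg
  let SE : Sys α :=
    { Xs := Gd ⋙ E
      aff := fun a b h => inferInstanceAs (IsAffineHom (E.map (Gd.map h)))
      qc := fun a => QuasiCompact.compactSpace_of_compactSpace
        (pullback.snd g ((NApproxLib.sys qS).map (Gd.obj a).hom))
      qs := fun a => AffLim.quasiSeparatedSpace_baseChange (NApproxLib.sys qS) i₀ g (Gd.obj a)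
      c := cE.whisker Gd
      hc := (Functor.Initial.isLimitWhiskerEquiv Gd cE).symm hV }
  haveI : CompactSpace SE.c.pt := ‹CompactSpace X›
  haveI : QuasiSeparatedSpace SE.c.pt := ‹QuasiSeparatedSpace X›
  obtain ⟨a, G, hG, ⟨hr⟩⟩ := exists_retract_stage SE F hF
  let k : Over i₀ := Gd.obj (op a)
  let fk : SE.X a ⟶ (NApproxLib.sys qS).obj k.left := pullback.snd g ((NApproxLib.sys qS).map k.hom)
  haveI : IsProper fk := hpr k
  have sq : IsPullback (SE.u a) f fk ((NApproxLib.cone qS).π.app k.left) := by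
    show IsPullback (FlatStage.vMap (NApproxLib.sys qS) (NApproxLib.cone qS) i₀ g hsq k) f _ _
    refine IsPullback.of_right ?_ (FlatStage.vMap_snd _ _ _ _ _ _)
      (IsPullback.of_hasPullback g ((NApproxLib.sys qS).map k.hom))
    rw [FlatStage.vMap_fst, (NApproxLib.cone qS).w]
    exact hsq
  haveI : IsLocallyNoetherian ((NApproxLib.sys qS).obj k.left) :=
    NApproxLib.isLocallyNoetherian_of_isFTZ (NApproxLib.isFTZ_stage qS hfS _)
  haveI : IsNoetherian ((NApproxLib.sys qS).obj k.left) := {}
  haveI : CompactSpace (SE.X a) := SE.qc _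
  haveI : QuasiSeparatedSpace (SE.X a) := SE.qs _
  obtain ⟨e⟩ := nonempty_pull_Rpush_iso fk _ f (SE.u a) sq G (isTorsion_of_isConstructible hG) q
  exact isConstructible_of_retract (hr.map (EtCoh.Rpush f q))
    (FLCLib.isConstructible_of_iso e (FLCLib.isConstructible_pull _ (H fk q G hG)))

/-- Proper morphisms of finite presentation over any base. -/
theorem isConstructible_Rpush_of_lfp
    (H : ∀ {X S : Scheme.{u}} [IsNoetherian S] (f : X ⟶ S) [IsProper f] (q : ℕ), PushConstr f q)
    {X S : Scheme.{u}} (f : X ⟶ S) [IsProper f] [LocallyOfFinitePresentation f] (F : EtCoh.Ab X)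
    (hF : EtPBC.IsConstructible F) (hT : EtCoh.IsTorsion F) (q : ℕ) :
    EtPBC.IsConstructible ((EtCoh.Rpush f q).obj F) := by
  refine S0129.result _ (fun U : S.affineOpens => U.1) (iSup_affineOpens_eq_top S) fun U => ?_
  obtain ⟨e⟩ := nonempty_pull_Rpush_iso f U.1.ι (f ∣_ U.1) (f ⁻¹ᵁ U.1).ι (isPullback_morphismRestrict f U.1).flip F
    hT q
  refine FLCLib.isConstructible_of_iso e.symm ?_
  haveI : IsAffine (U.1 : Scheme.{u}) := U.2
  exact pushConstr_of_lfp H (f ∣_ U.1) q _ (FLCLib.isConstructible_pull _ hF)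

end Groth.Agent.FinPushLib
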