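import Groth.Agent.RDerLib.Horseshoe
import Mathlib.CategoryTheory.Abelian.Exact
import Mathlib.Algebra.Homology.ShortComplex.ExactFunctor

/-!
# Classes closed under middle terms, and the derived functors of a composite

`P` is closed under middle terms of exact sequences. For a complex `K` of acyclic objects for a left exact `G`,
`P` propagates from the `Rᵃ G (Hʲ K)` to the cohomology of `G K`, and back to `R^q G (H⁰ K)`.
-/

set_option autoImplicit false
set_option backward.isDefEq.respectTransparency false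
set_option linter.style.haveILetI false
set_option linter.unusedSectionVars false
set_option maxHeartbeats 1000000

universe v u v' u'

open CategoryTheory CategoryTheory.Limits HomologicalComplex

noncomputable section

namespace Groth.Agent.FinPushLib

variable {C : Type u} [Category.{v} C] [Abelian C] [EnoughInjectives C]
  {D : Type u'} [Category.{v'} D] [Abelian D]

/-- A class of objects closed under middle terms of exact sequences. -/
structure MidClass (P : D → Prop) : Prop where
  zero : ∀ X : D, IsZero X → P X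
  mid : ∀ S : ShortComplex D, S.Exact → P S.X₁ → P S.X₃ → P S.X₂

theorem isIso_homologyπ_zero {E : Type u'} [Category.{v'} E] [Abelian E] (K : CochainComplex E ℕ) :
    IsIso (K.homologyπ 0) :=
  K.isIso_homologyπ 0 0 (by simp) (by simp)

theorem isIso_homologyπ_zero' {E : Type u} [Category.{v} E] [Abelian E] (K : CochainComplex E ℕ) :
    IsIso (K.homologyπ 0) :=
  K.isIso_homologyπ 0 0 (by simp) (by simp)

namespace MidClass

variable {P : D → Prop} (hP : MidClass P)
include hP

theorem of_epi {X Y : D} (f : X ⟶ Y) [Epi f] (hX : P X) : P Y :=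
  hP.mid (ShortComplex.mk f (0 : Y ⟶ Y) comp_zero)
    (ShortComplex.exact_iff_epi _ rfl |>.2 ‹Epi f›) hX
    (hP.mid (ShortComplex.mk f (cokernel.π f) (cokernel.condition f))
      (ShortComplex.exact_of_g_is_cokernel _ (cokernelIsCokernel f)) hX
      (hP.zero _ (isZero_cokernel_of_epi f)))

theorem of_mono {X Y : D} (f : X ⟶ Y) [Mono f] (hY : P Y) : P X :=
  hP.mid (ShortComplex.mk (kernel.ι f) f (kernel.condition f))
    (ShortComplex.exact_of_f_is_kernel _ (kernelIsKernel f)) (hP.zero _ (isZero_kernel_of_mono f)) hY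

theorem of_iso {X Y : D} (e : X ≅ Y) (hX : P X) : P Y := hP.of_epi e.hom hX

end MidClass

section Composite

variable (G : C ⥤ D) [G.Additive] [PreservesFiniteLimits G] (K : CochainComplex C ℕ)
  {P : D → Prop}

/-- The boundaries, as the kernel of the projection to cohomology. -/
abbrev bdry (j : ℕ) : C := kernel (K.homologyπ j)

/-- `Bʲ → Zʲ → Hʲ`. -/
def seqBZH (j : ℕ) : ShortComplex C :=
  ShortComplex.mk (kernel.ι (K.homologyπ j)) (K.homologyπ j) (kernel.condition _)

theorem shortExact_seqBZH (j : ℕ) : (seqBZH K j).ShortExact :=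
  { exact := ShortComplex.exact_of_f_is_kernel _ (kernelIsKernel _)
    mono_f := inferInstanceAs (Mono (kernel.ι (K.homologyπ j)))
    epi_g := inferInstanceAs (Epi (K.homologyπ j)) }

/-- `Kʲ → Bʲ⁺¹`. -/
def toBdry (j : ℕ) : K.X j ⟶ bdry K (j + 1) :=
  kernel.lift _ (K.toCycles j (j + 1)) (K.toCycles_comp_homologyπ j (j + 1))

theorem toBdry_ι (j : ℕ) : toBdry K j ≫ kernel.ι (K.homologyπ (j + 1)) = K.toCycles j (j + 1) :=
  kernel.lift_ι _ _ _

theorem iCycles_toBdry (j : ℕ) : K.iCycles j ≫ toBdry K j = 0 := by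
  rw [← cancel_mono (kernel.ι (K.homologyπ (j + 1))), Category.assoc, toBdry_ι, zero_comp,
    ← cancel_mono (K.iCycles (j + 1)), Category.assoc, toCycles_i, zero_comp, iCycles_d]

/-- `Zʲ → Kʲ → Bʲ⁺¹`. -/
def seqZKB (j : ℕ) : ShortComplex C := ShortComplex.mk (K.iCycles j) (toBdry K j) (iCycles_toBdry K j)

theorem exact_toCycles (j : ℕ) :
    (ShortComplex.mk (K.toCycles j (j + 1)) (K.homologyπ (j + 1)) (K.toCycles_comp_homologyπ _ _)).Exact :=
  ShortComplex.exact_of_g_is_cokernel _ (K.homologyIsCokernel j (j + 1) (by simp))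

theorem shortExact_seqZKB (j : ℕ) : (seqZKB K j).ShortExact :=
  { exact := by
      rw [ShortComplex.exact_iff_exact_up_to_refinements]
      intro A x hx
      dsimp [seqZKB] at x hx
      have hd : x ≫ K.d j (j + 1) = 0 := by
        rw [← toCycles_i, ← toBdry_ι, ← Category.assoc, ← Category.assoc, hx, zero_comp, zero_comp]
      exact ⟨A, 𝟙 A, inferInstance, K.liftCycles x (j + 1) (by simp) hd, by simp [seqZKB]⟩
    mono_f := inferInstanceAs (Mono (K.iCycles j))
    epi_g := (exact_toCycles K j).epi_kernelLift }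

theorem mono_rightDerived_zero {X Y : C} (f : X ⟶ Y) [Mono f] : Mono ((G.rightDerived 0).map f) := by
  have h : (G.rightDerived 0).map f =
      inv (G.toRightDerivedZero.app X) ≫ G.map f ≫ G.toRightDerivedZero.app Y := by
    rw [IsIso.eq_inv_comp]
    exact (G.toRightDerivedZero.naturality f).symm
  rw [h]
  infer_instance

variable (hK : ∀ j a : ℕ, IsZero ((G.rightDerived (a + 1)).obj (K.X j)))

include hK in
theorem bdry_of_cycles (Δ : RDer.DerivedLES G) (hP : MidClass P) {a j : ℕ} (ha : 1 ≤ a)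
    (h : P ((G.rightDerived (a + 1)).obj (K.cycles j))) : P ((G.rightDerived a).obj (bdry K (j + 1))) := by
  obtain ⟨a, rfl⟩ : ∃ b, a = b + 1 := ⟨a - 1, by omega⟩
  exact hP.mid _ (Δ.exact₃ (seqZKB K j) (shortExact_seqZKB K j) (a + 1) (a + 1 + 1) rfl)
    (hP.zero _ (hK j a)) h

include hK in
/-- Forward: the higher derived functors of the cocycles. -/
theorem cycles_of_homology (Δ : RDer.DerivedLES G) (hP : MidClass P) :
    ∀ (j a : ℕ), 1 ≤ a →
      (∀ a' j', a' + j' = a + j → a ≤ a' → P ((G.rightDerived a').obj (K.homology j'))) →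
      P ((G.rightDerived a).obj (K.cycles j))
  | 0, a, _, h => by
    haveI := isIso_homologyπ_zero' K
    exact hP.of_iso ((G.rightDerived a).mapIso (asIso (K.homologyπ 0)).symm) (h a 0 rfl le_rfl)
  | j + 1, a, ha, h =>
    hP.mid _ (Δ.exact₂ (seqBZH K (j + 1)) (shortExact_seqBZH K (j + 1)) a)
      (bdry_of_cycles G K hK Δ hP ha
        (cycles_of_homology Δ hP j (a + 1) (by omega) fun a' j' he hle => h a' j' (by omega) (by omega)))
      (h a (j + 1) rfl le_rfl)

/-- The cokernel which computes the cohomology of `G K`. -/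
abbrev homCoker (j : ℕ) : D := cokernel ((G.rightDerived 0).map (K.toCycles j (j + 1)))

theorem nonempty_homologyIso (j : ℕ) :
    Nonempty (homCoker G K j ≅ ((G.mapHomologicalComplex (ComplexShape.up ℕ)).obj K).homology (j + 1)) := by
  let L := (G.mapHomologicalComplex (ComplexShape.up ℕ)).obj K
  have hZ := KernelFork.mapIsLimit _ (K.cyclesIsKernel (j + 1) (j + 2) (by simp)) G
  let hL := L.cyclesIsKernel (j + 1) (j + 2) (by simp)
  let e : G.obj (K.cycles (j + 1)) ≅ L.cycles (j + 1) := IsLimit.conePointUniqueUpToIso hZ hL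
  have he : e.hom ≫ L.iCycles (j + 1) = G.map (K.iCycles (j + 1)) :=
    IsLimit.conePointUniqueUpToIso_hom_comp hZ hL WalkingParallelPair.zero
  have w : G.map (K.toCycles j (j + 1)) ≫ e.hom = L.toCycles j (j + 1) := by
    rw [← cancel_mono (L.iCycles (j + 1)), Category.assoc, he, ← G.map_comp, toCycles_i, toCycles_i]
    rfl
  haveI : IsIso (G.toRightDerivedZero.app (K.cycles (j + 1))) := inferInstance
  refine ⟨cokernel.mapIso _ (L.toCycles j (j + 1)) (asIso (G.toRightDerivedZero.app (K.X j))).symm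
    ((asIso (G.toRightDerivedZero.app (K.cycles (j + 1)))).symm ≪≫ e) ?_ ≪≫
    (cokernelIsCokernel (L.toCycles j (j + 1))).coconePointUniqueUpToIso
      (L.homologyIsCokernel j (j + 1) (by simp))⟩
  have n := G.toRightDerivedZero.naturality (K.toCycles j (j + 1))
  rw [← w]
  simp only [Iso.symm_hom, Iso.trans_hom, asIso_inv]
  rw [← cancel_epi (G.toRightDerivedZero.app (K.X j)), IsIso.hom_inv_id_assoc, ← Category.assoc, ← n,
    Category.assoc, IsIso.hom_inv_id_assoc]

include hK in
theorem exists_compare (Δ : RDer.DerivedLES G) (j : ℕ) :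
    ∃ (φ : (G.rightDerived 1).obj (K.cycles j) ⟶ homCoker G K j)
      (ψ : homCoker G K j ⟶ (G.rightDerived 0).obj (K.homology (j + 1))) (w : φ ≫ ψ = 0),
      (ShortComplex.mk φ ψ w).Exact ∧ Mono φ ∧
        cokernel.π ((G.rightDerived 0).map (K.toCycles j (j + 1))) ≫ ψ =
          (G.rightDerived 0).map (K.homologyπ (j + 1)) := by
  have hS := shortExact_seqZKB K j
  let r := (G.rightDerived 0).map (seqZKB K j).g
  let δ := Δ.δ (seqZKB K j) hS 0 1 rfl
  haveI : Epi δ := (Δ.exact₁ (seqZKB K j) hS 0 1 rfl).epi_f ((hK j 0).eq_of_tgt _ _)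
  let i := (G.rightDerived 0).map (kernel.ι (K.homologyπ (j + 1)))
  haveI : Mono i := mono_rightDerived_zero G _
  let tc := (G.rightDerived 0).map (K.toCycles j (j + 1))
  have hr : r ≫ i = tc := by
    rw [← Functor.map_comp]
    exact congrArg _ (toBdry_ι K j)
  have h0 : r ≫ i ≫ cokernel.π tc = 0 := by rw [← Category.assoc, hr, cokernel.condition]
  have hex := Δ.exact₃ (seqZKB K j) hS 0 1 rfl
  let φ : (G.rightDerived 1).obj (K.cycles j) ⟶ homCoker G K j := hex.desc (i ≫ cokernel.π tc) h0
  have hφ : δ ≫ φ = i ≫ cokernel.π tc := hex.g_desc _ h0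
  have hti : i ≫ (G.rightDerived 0).map (K.homologyπ (j + 1)) = 0 := by
    rw [← Functor.map_comp, kernel.condition, Functor.map_zero]
  let ψ : homCoker G K j ⟶ (G.rightDerived 0).obj (K.homology (j + 1)) :=
    cokernel.desc _ ((G.rightDerived 0).map (K.homologyπ (j + 1)))
      (by rw [← Functor.map_comp, toCycles_comp_homologyπ, Functor.map_zero])
  have hπψ : cokernel.π tc ≫ ψ = (G.rightDerived 0).map (K.homologyπ (j + 1)) := cokernel.π_desc _ _ _
  have w : φ ≫ ψ = 0 := by rw [← cancel_epi δ, ← Category.assoc, hφ, Category.assoc, hπψ, hti, comp_zero]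
  have hBZH := Δ.exact₂ (seqBZH K (j + 1)) (shortExact_seqBZH K (j + 1)) 0
  refine ⟨φ, ψ, w, ?_, ?_, hπψ⟩
  · rw [ShortComplex.exact_iff_exact_up_to_refinements]
    intro A x hx
    dsimp at x hx
    obtain ⟨A₁, π₁, _, z, hz⟩ := surjective_up_to_refinements_of_epi (cokernel.π tc) x
    obtain ⟨A₂, π₂, _, b, hb⟩ := hBZH.exact_up_to_refinements z (by
      show z ≫ (G.rightDerived 0).map (K.homologyπ (j + 1)) = 0
      rw [← hπψ, ← Category.assoc, ← hz, Category.assoc, hx, comp_zero])
    refine ⟨A₂, π₂ ≫ π₁, inferInstance, b ≫ δ, ?_⟩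
    show (π₂ ≫ π₁) ≫ x = (b ≫ δ) ≫ φ
    rw [Category.assoc, hz, Category.assoc, hφ, ← Category.assoc, ← Category.assoc]
    exact congrArg (· ≫ cokernel.π tc) hb
  · refine (Preadditive.mono_iff_cancel_zero φ).2 fun {A} a ha => ?_
    obtain ⟨A₁, π₁, _, b, hb⟩ := surjective_up_to_refinements_of_epi δ a
    have h1 : (b ≫ i) ≫ cokernel.π tc = 0 := by
      rw [Category.assoc, ← hφ, ← Category.assoc, ← hb, Category.assoc, ha, comp_zero]
    obtain ⟨A₂, π₂, _, k, hk⟩ := (ShortComplex.exact_of_g_is_cokernel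
      (ShortComplex.mk tc (cokernel.π tc) (cokernel.condition tc)) (cokernelIsCokernel tc)).exact_up_to_refinements _ h1
    dsimp at k hk
    have hk' : π₂ ≫ b = k ≫ r := by rw [← cancel_mono i, Category.assoc, Category.assoc, hr, ← hk]
    have hrδ : r ≫ δ = 0 := Δ.comp_δ (seqZKB K j) hS 0 1 rfl
    rw [← cancel_epi π₁, ← cancel_epi π₂, hb, ← Category.assoc, hk', Category.assoc, hrδ, comp_zero,
      comp_zero, comp_zero]

include hK in
/-- If the `Rᵃ G (Hʲ K)` are in `P` for `a + j = q`, so is the cohomology of `G K` in degree `q`. -/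
theorem homology_map_mem (hP : MidClass P) (q : ℕ)
    (h : ∀ a j : ℕ, a + j = q → P ((G.rightDerived a).obj (K.homology j))) :
    P (((G.mapHomologicalComplex (ComplexShape.up ℕ)).obj K).homology q) := by
  obtain ⟨Δ⟩ := RDerLib.nonempty_derivedLES G
  rcases q with _ | q
  · let L := (G.mapHomologicalComplex (ComplexShape.up ℕ)).obj K
    haveI := isIso_homologyπ_zero' K
    haveI := isIso_homologyπ_zero L
    have hZ := KernelFork.mapIsLimit _ (K.cyclesIsKernel 0 1 (by simp)) G
    let e : G.obj (K.cycles 0) ≅ L.cycles 0 := IsLimit.conePointUniqueUpToIso hZ (L.cyclesIsKernel 0 1 (by simp))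
    exact hP.of_iso ((asIso (G.toRightDerivedZero.app (K.homology 0))).symm ≪≫
      G.mapIso (asIso (K.homologyπ 0)).symm ≪≫ e ≪≫ asIso (L.homologyπ 0)) (h 0 0 rfl)
  · obtain ⟨φ, ψ, w, hex, -⟩ := exists_compare G K hK Δ q
    refine hP.of_iso (nonempty_homologyIso G K q).some (hP.mid _ hex ?_ (h 0 (q + 1) (zero_add _)))
    exact cycles_of_homology G K hK Δ hP q 1 le_rfl fun a' j' he _ => h a' j' (by omega)

include hK in
/-- Conversely `R^q G (H⁰ K)` is in `P` if the cohomology of `G K` and the other terms are. -/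
theorem rightDerived_homology_zero_mem (hP : MidClass P) (q : ℕ)
    (hq : P (((G.mapHomologicalComplex (ComplexShape.up ℕ)).obj K).homology q))
    (h : ∀ a j : ℕ, a + j + 1 = q → 1 ≤ j → P ((G.rightDerived a).obj (K.homology j))) :
    P ((G.rightDerived q).obj (K.homology 0)) := by
  obtain ⟨Δ⟩ := RDerLib.nonempty_derivedLES G
  rcases q with _ | q
  · let L := (G.mapHomologicalComplex (ComplexShape.up ℕ)).obj K
    haveI := isIso_homologyπ_zero' K
    haveI := isIso_homologyπ_zero L
    have hZ := KernelFork.mapIsLimit _ (K.cyclesIsKernel 0 1 (by simp)) G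
    let e : G.obj (K.cycles 0) ≅ L.cycles 0 := IsLimit.conePointUniqueUpToIso hZ (L.cyclesIsKernel 0 1 (by simp))
    exact hP.of_iso ((asIso (G.toRightDerivedZero.app (K.homology 0))).symm ≪≫
      G.mapIso (asIso (K.homologyπ 0)).symm ≪≫ e ≪≫ asIso (L.homologyπ 0)).symm hq
  · have key : ∀ a j : ℕ, a + j = q → P ((G.rightDerived (a + 1)).obj (K.cycles j)) := by
      intro a
      induction a with
      | zero =>
        intro j hj
        obtain ⟨φ, ψ, w, -, hφ, -⟩ := exists_compare G K hK Δ j
        refine hP.of_mono φ (hP.of_iso (nonempty_homologyIso G K j).some.symm ?_)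
        rw [zero_add] at hj
        rw [hj]
        exact hq
      | succ a ih =>
        intro j hj
        have hB : P ((G.rightDerived (a + 1)).obj (bdry K (j + 1))) :=
          hP.mid _ (Δ.exact₁ (seqBZH K (j + 1)) (shortExact_seqBZH K (j + 1)) a (a + 1) rfl)
            (h a (j + 1) (by omega) (by omega)) (ih (j + 1) (by omega))
        haveI : Epi (Δ.δ (seqZKB K j) (shortExact_seqZKB K j) (a + 1) (a + 1 + 1) rfl) :=
          (Δ.exact₁ (seqZKB K j) (shortExact_seqZKB K j) (a + 1) (a + 1 + 1) rfl).epi_f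
            ((hK j (a + 1)).eq_of_tgt _ _)
        exact hP.of_epi (Δ.δ (seqZKB K j) (shortExact_seqZKB K j) (a + 1) (a + 1 + 1) rfl) hB
    haveI := isIso_homologyπ_zero' K
    exact hP.of_iso ((G.rightDerived (q + 1)).mapIso (asIso (K.homologyπ 0))) (key q 0 rfl)

end Composite

end Groth.Agent.FinPushLib
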