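import Groth.Agent.FinPushLib.CurveModelField
import Groth.Agent.PropPi1.LimBC
import Groth.Agent.AffLim.DescendMore
import Groth.Agent.FlatStage.Smooth
import Groth.Agent.EtAlgEasy.MorFibre
import Groth.Agent.S0591
import Mathlib.AlgebraicGeometry.ZariskisMainTheorem

/-!
# Spreading out the normalisation of a relative curve
-/

set_option autoImplicit false
set_option backward.isDefEq.respectTransparency false
set_option backward.isDefEq.respectTransparency.types false
set_option linter.style.haveILetI false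
set_option maxHeartbeats 1000000
set_option synthInstance.maxHeartbeats 400000

universe u

open CategoryTheory CategoryTheory.Limits AlgebraicGeometry TopologicalSpace Opposite

noncomputable section

namespace Groth.Agent.FinPushLib.CurveModel

/-- The base change of a field-valued point has the dimension of the fibre. -/
theorem dim_pullback_field {T X : Scheme.{u}} (f : X ⟶ T) [LocallyOfFiniteType f] {L : Type u} [Field L]
    (h : Spec (CommRingCat.of L) ⟶ T) :
    ∃ t : T, topologicalKrullDim ↥(pullback f h) = topologicalKrullDim ↥(f.fiber t) := by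
  let t := h (IsLocalRing.closedPoint L)
  let ψ := Spec.map (T.descResidueField (Scheme.stalkClosedPointTo h))
  have e : ψ ≫ T.fromSpecResidueField t = h :=
    Scheme.descResidueField_stalkClosedPointTo_fromSpecResidueField L T h
  refine ⟨t, ?_⟩
  let l : pullback f h ⟶ pullback f (T.fromSpecResidueField t) :=
    pullback.lift (pullback.fst f h) (pullback.snd f h ≫ ψ) (by rw [Category.assoc, e, pullback.condition])
  have sq : IsPullback l (pullback.snd f h) (pullback.snd f (T.fromSpecResidueField t)) ψ :=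
    IsPullback.of_right (by rw [pullback.lift_fst, e]; exact IsPullback.of_hasPullback f h)
      (pullback.lift_snd _ _ _) (IsPullback.of_hasPullback f _)
  exact EtAlgEasy.MorFibre.topologicalKrullDim_baseChange sq

/-- Fibres of a finite morphism followed by a base change of a curve are curves. -/
theorem dim_fiber_le {T X T' Y : Scheme.{u}} (f : X ⟶ T) [LocallyOfFiniteType f]
    (hdim : ∀ t : T, topologicalKrullDim ↥(f.fiber t) ≤ 1) (g : T' ⟶ T) (ν : Y ⟶ pullback f g) [IsFinite ν]
    (t : T') : topologicalKrullDim ↥((ν ≫ pullback.snd f g).fiber t) ≤ 1 := by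
  let s := pullback.snd f g
  let ρ := T'.fromSpecResidueField t
  let m : pullback (ν ≫ s) ρ ⟶ pullback s ρ := pullback.map _ _ _ _ ν (𝟙 _) (𝟙 _) (by simp) (by simp)
  have sq : IsPullback (pullback.fst (ν ≫ s) ρ) m ν (pullback.fst s ρ) :=
    IsPullback.of_bot (by simpa [m] using IsPullback.of_hasPullback (ν ≫ s) ρ) (by simp [m])
      (IsPullback.of_hasPullback s ρ)
  haveI : IsFinite m := MorphismProperty.of_isPullback (P := @IsFinite) sq inferInstance
  refine (DimLiftLib.le_of_isIntegralHom m).trans ?_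
  obtain ⟨t₀, ht₀⟩ := dim_pullback_field f (ρ ≫ g)
  exact ((Scheme.Hom.homeomorph (pullbackLeftPullbackSndIso f g ρ).hom).isHomeomorph.topologicalKrullDim_eq.trans ht₀).trans_le (hdim t₀)

theorem isPullback_lift {S P P' X : Scheme.{u}} (a : X ⟶ S) {g : P ⟶ S} {g' : P' ⟶ S} (ψ : P' ⟶ P)
    (hψ : ψ ≫ g = g') (m : pullback a g' ⟶ pullback a g) (h1 : m ≫ pullback.fst a g = pullback.fst a g')
    (h2 : m ≫ pullback.snd a g = pullback.snd a g' ≫ ψ) :
    IsPullback m (pullback.snd a g') (pullback.snd a g) ψ :=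
  IsPullback.of_right (by rw [h1, hψ]; exact IsPullback.of_hasPullback a g') h2 (IsPullback.of_hasPullback a g)

theorem exists_restrict {X Y X' Y' : Scheme.{u}} {q : X' ⟶ X} {ν : X' ⟶ Y'} {h : X ⟶ Y} {π : Y' ⟶ Y}
    (sq : IsPullback q ν h π) (O : Y.Opens) :
    ∃ l, IsPullback l (ν ∣_ π ⁻¹ᵁ O) (h ∣_ O) (π ∣_ O) := by
  have big := (isPullback_morphismRestrict ν (π ⁻¹ᵁ O)).flip.paste_horiz sq
  rw [← morphismRestrict_ι π O] at big
  have hr := (isPullback_morphismRestrict h O).flip
  refine ⟨hr.lift ((ν ⁻¹ᵁ π ⁻¹ᵁ O).ι ≫ q) ((ν ∣_ π ⁻¹ᵁ O) ≫ (π ∣_ O)) (by simpa using big.w),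
    IsPullback.of_right ?_ (hr.lift_snd _ _ _) hr⟩
  rwa [hr.lift_fst]

section Stage

variable {I : Type u} [SmallCategory I] (D : I ⥤ Scheme.{u})

theorem prop_stage (P : MorphismProperty Scheme.{u}) [P.RespectsIso] {i : I} {Y₀ : Scheme.{u}}
    (h : Y₀ ⟶ D.obj i) (k : Over i) (hk : P ((AffLim.baseChangeMap D i h (𝟙 _)).app k)) :
    P (pullback.snd h (D.map k.hom)) :=
  (AffLim.prop_iff_of_isPullback P (AffLim.isPullback_baseChangeMap D i h (𝟙 _) k)
    (IsPullback.of_hasPullback h (D.map k.hom)) (asIso (pullback.snd (𝟙 (D.obj i)) (D.map k.hom)))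
    (by simp [← pullback.condition])).1 hk

theorem prop_stage_restrict (P : MorphismProperty Scheme.{u}) [P.RespectsIso] {i : I} {Y₀ : Scheme.{u}}
    (h : Y₀ ⟶ D.obj i) (O : (D.obj i).Opens) (k : Over i)
    (hk : P ((AffLim.baseChangeMap D i (h ∣_ O) O.ι).app k)) :
    P (pullback.snd h (D.map k.hom) ∣_ D.map k.hom ⁻¹ᵁ O) := by
  obtain ⟨l, hl⟩ := exists_restrict (IsPullback.of_hasPullback h (D.map k.hom)) O
  let e := (IsPullback.of_hasPullback O.ι (D.map k.hom)).isoIsPullback _ _
    (isPullback_morphismRestrict (D.map k.hom) O)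
  exact (AffLim.prop_iff_of_isPullback P (AffLim.isPullback_baseChangeMap D i (h ∣_ O) O.ι k) hl e
    (IsPullback.isoIsPullback_hom_fst _ _ _ _)).1 hk

theorem prop_later (P : MorphismProperty Scheme.{u}) [P.IsStableUnderBaseChange] {i : I} {X₀ Y₀ : Scheme.{u}}
    (f₀ : X₀ ⟶ Y₀) (g₀ : Y₀ ⟶ D.obj i) {k l : Over i} (φ : l ⟶ k)
    (hk : P ((AffLim.baseChangeMap D i f₀ g₀).app k)) : P ((AffLim.baseChangeMap D i f₀ g₀).app l) :=
  (AffLim.prop_stage_stage D i f₀ g₀ P φ).1 (MorphismProperty.of_isPullback (IsPullback.of_hasPullback _ _) hk)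

end Stage

end CurveModel

open CurveModel

/-- **The normalisation of a relative curve spreads out.** -/
theorem exists_smooth_model {T : Scheme.{u}} [IsNoetherian T] [IsIntegral T] [IsAffine T] {X : Scheme.{u}}
    (f : X ⟶ T) [IsProper f] (hdim : ∀ t : T, topologicalKrullDim ↥(f.fiber t) ≤ 1) :
    ∃ (T'' : Scheme.{u}) (g : T'' ⟶ T) (_ : IsAffine T'') (_ : IsNoetherian T'') (_ : IsIntegral T'')
      (_ : LocallyOfFiniteType g) (_ : QuasiCompact g) (_ : IsDominant g) (Y : Scheme.{u})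
      (ν : Y ⟶ pullback f g) (_ : IsFinite ν) (_ : Smooth (ν ≫ pullback.snd f g)) (W : (pullback f g).Opens)
      (Z : Scheme.{u}) (i : Z ⟶ pullback f g) (_ : IsClosedImmersion i),
      (∀ t : T'', topologicalKrullDim ↥((ν ≫ pullback.snd f g).fiber t) ≤ 1) ∧ Surjective (ν ∣_ W) ∧
        UniversallyInjective (ν ∣_ W) ∧ Set.range i = (W : Set ↥(pullback f g))ᶜ ∧
          IsFinite (i ≫ pullback.snd f g) := by
  classical
  haveI : Nonempty (⊤ : T.Opens) := ⟨⟨genericPoint T, trivial⟩⟩
  haveI : IsNoetherianRing Γ(T, ⊤) := IsLocallyNoetherian.component_noetherian ⟨⊤, isAffineOpen_top T⟩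
  let A : Type u := Γ(T, ⊤)
  haveI : IsDomain A := inferInstanceAs (IsDomain Γ(T, ⊤))
  haveI : IsNoetherianRing A := ‹IsNoetherianRing Γ(T, ⊤)›
  let Ω : Type u := AlgebraicClosure (FractionRing A)
  have hinj : Function.Injective (algebraMap A Ω) := by
    rw [IsScalarTower.algebraMap_eq A (FractionRing A) Ω]
    exact (algebraMap (FractionRing A) Ω).injective.comp (IsFractionRing.injective A (FractionRing A))
  let D := PropPi1.fgSys A Ω
  let c := PropPi1.fgCone A Ω
  have hc : IsLimit c := PropPi1.isLimitFgCone A Ω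
  haveI hDaff : ∀ {i j : (PropPi1.FgIdx A Ω)ᵒᵖ} (φ : i ⟶ j), IsAffineHom (D.map φ) := fun φ =>
    inferInstanceAs (IsAffineHom ((PropPi1.fgSys A Ω).map φ))
  haveI hDft : ∀ i : (PropPi1.FgIdx A Ω)ᵒᵖ, Algebra.FiniteType A i.unop.1 := fun i =>
    (Subalgebra.fg_iff_finiteType i.unop.1).1 i.unop.2
  haveI : ∀ i : (PropPi1.FgIdx A Ω)ᵒᵖ, IsNoetherianRing i.unop.1 := fun i =>
    Algebra.FiniteType.isNoetherianRing A i.unop.1
  haveI hDnoe : ∀ i, IsNoetherian (D.obj i) := fun i =>
    inferInstanceAs (IsNoetherian (Spec (CommRingCat.of i.unop.1)))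
  haveI hDaf : ∀ i, IsAffine (D.obj i) := fun i => inferInstanceAs (IsAffine ((PropPi1.fgSys A Ω).obj i))
  let t : D ⟶ (Functor.const _).obj T := PropPi1.fgToBase A Ω ≫ (Functor.const _).map T.isoSpec.inv
  let gΩ : Spec (CommRingCat.of Ω) ⟶ T := Spec.map (CommRingCat.ofHom (algebraMap A Ω)) ≫ T.isoSpec.inv
  have hg : ∀ j, c.π.app j ≫ t.app j = gΩ := fun j => by
    show c.π.app j ≫ (PropPi1.fgToBase A Ω).app j ≫ T.isoSpec.inv = gΩ
    rw [← Category.assoc]
    exact congrArg (· ≫ T.isoSpec.inv) (PropPi1.fgCone_toBase A Ω j)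
  let D' := PropPi1.bcDiag t f
  let c' := PropPi1.bcCone t f c gΩ hg
  have hc' : IsLimit c' := (PropPi1.nonempty_isLimit_bcCone t f c gΩ hg hc).some
  haveI hD'aff : ∀ {i j : (PropPi1.FgIdx A Ω)ᵒᵖ} (φ : i ⟶ j), IsAffineHom (D'.map φ) := fun φ =>
    inferInstanceAs (IsAffineHom ((PropPi1.bcDiag t f).map φ))
  haveI hD'ln : ∀ i, IsLocallyNoetherian (D'.obj i) := fun i =>
    LocallyOfFiniteType.isLocallyNoetherian (pullback.snd f (t.app i))
  haveI hD'c : ∀ i, CompactSpace (D'.obj i) := fun i =>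
    QuasiCompact.compactSpace_of_compactSpace (pullback.snd f (t.app i))
  haveI hD'n : ∀ i, IsNoetherian (D'.obj i) := fun i => {}
  haveI hD'qs : ∀ i, QuasiSeparatedSpace (D'.obj i) := fun i =>
    quasiSeparatedSpace_of_quasiSeparated (pullback.snd f (t.app i))
  -- the geometric generic fibre
  let qΩ : pullback f gΩ ⟶ Spec (CommRingCat.of Ω) := pullback.snd f gΩ
  obtain ⟨t₀, ht₀⟩ := dim_pullback_field f gΩ
  obtain ⟨Y, ν, W, hνfin, hνsm, hνsurj, hνui, hB⟩ := exists_field_model Ω qΩ (ht₀.trans_le (hdim t₀))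
  haveI := hνfin
  haveI : IsLocallyNoetherian (pullback f gΩ) := LocallyOfFiniteType.isLocallyNoetherian qΩ
  haveI : CompactSpace ↥(pullback f gΩ) := QuasiCompact.compactSpace_of_compactSpace qΩ
  haveI : IsNoetherian (pullback f gΩ) := {}
  haveI : LocallyOfFinitePresentation (Y := c'.pt) ν := inferInstanceAs (LocallyOfFinitePresentation ν)
  haveI : QuasiCompact (Y := c'.pt) ν := inferInstanceAs (QuasiCompact ν)
  haveI : QuasiSeparated (Y := c'.pt) ν := inferInstanceAs (QuasiSeparated ν)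
  obtain ⟨i₁, Y₁, h₁, q₁, hfp, hqc, hqs, sq₁⟩ := Groth.Agent.S0591.result D' c' hc' Y ν
  haveI := hfp; haveI := hqc; haveI := hqs
  obtain ⟨i₂, V, -, hV⟩ := exists_preimage_eq D' c' hc' W (NoetherianSpace.isCompact (W : Set ↥(pullback f gΩ)))
  let i := IsCofiltered.min i₁ i₂
  let a₁ : i ⟶ i₁ := IsCofiltered.minToLeft i₁ i₂
  let a₂ : i ⟶ i₂ := IsCofiltered.minToRight i₁ i₂
  let Wi : (D'.obj i).Opens := D'.map a₂ ⁻¹ᵁ V
  obtain rfl : c'.π.app i ⁻¹ᵁ Wi = W := by
    rw [← hV, ← c'.w a₂]; rfl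
  let h : pullback h₁ (D'.map a₁) ⟶ D'.obj i := pullback.snd h₁ (D'.map a₁)
  haveI : LocallyOfFinitePresentation h := inferInstanceAs (LocallyOfFinitePresentation (pullback.snd _ _))
  haveI : QuasiCompact h := inferInstanceAs (QuasiCompact (pullback.snd _ _))
  haveI : QuasiSeparated h := inferInstanceAs (QuasiSeparated (pullback.snd _ _))
  haveI : IsLocallyNoetherian (pullback h₁ (D'.map a₁)) := LocallyOfFiniteType.isLocallyNoetherian h
  haveI : CompactSpace ↥(pullback h₁ (D'.map a₁)) := QuasiCompact.compactSpace_of_compactSpace h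
  haveI : IsNoetherian (pullback h₁ (D'.map a₁)) := {}
  let q : Y ⟶ pullback h₁ (D'.map a₁) :=
    pullback.lift q₁ (ν ≫ c'.π.app i) (by rw [Category.assoc, c'.w, sq₁.w])
  have sq : IsPullback q ν h (c'.π.app i) :=
    IsPullback.of_right (by rw [pullback.lift_fst, c'.w]; exact sq₁) (pullback.lift_snd _ _ _)
      (IsPullback.of_hasPullback _ _)
  let pr := pullback.snd f (t.app i)
  have sqπ : IsPullback (c'.π.app i) qΩ pr (c.π.app i) :=
    isPullback_lift f (c.π.app i) (hg i) (c'.π.app i)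
      (by simp [c']) (by simp [c'])
  have hid : ∀ {S S' : Scheme.{u}} (p : S' ⟶ S), IsPullback p (𝟙 S') (𝟙 S) p := fun p =>
    IsPullback.of_vert_isIso ⟨by simp⟩
  -- finiteness
  obtain ⟨kF, hkF⟩ := AffLim.exists_isFinite_baseChange D' c' hc' i h (𝟙 _) (hid (c'.π.app i)) sq
  -- smoothness
  let pi : pullback h₁ (D'.map a₁) ⟶ D.obj i := h ≫ pr
  haveI : IsProper pr := inferInstanceAs (IsProper (pullback.snd _ _))
  haveI : LocallyOfFinitePresentation pi := inferInstanceAs (LocallyOfFinitePresentation (h ≫ pr))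
  haveI : Smooth (Y := c.pt) (ν ≫ qΩ) := hνsm
  obtain ⟨kS, hkS⟩ := FlatStage.exists_smooth D c i pi (𝟙 _) (hid (c.π.app i)) (sq.paste_vert sqπ) hc
  -- the open part
  haveI : IsLocallyNoetherian (h ⁻¹ᵁ Wi).toScheme := isLocallyNoetherian_of_isOpenImmersion (h ⁻¹ᵁ Wi).ι
  haveI : CompactSpace (h ⁻¹ᵁ Wi).toScheme := isCompact_iff_compactSpace.1 (NoetherianSpace.isCompact _)
  haveI : IsNoetherian (h ⁻¹ᵁ Wi).toScheme := {}
  haveI : IsLocallyNoetherian Wi.toScheme := isLocallyNoetherian_of_isOpenImmersion Wi.ι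
  haveI : CompactSpace Wi.toScheme := isCompact_iff_compactSpace.1 (NoetherianSpace.isCompact _)
  haveI : IsNoetherian Wi.toScheme := {}
  haveI : LocallyOfFinitePresentation (h ∣_ Wi) :=
    IsZariskiLocalAtTarget.restrict (P := @LocallyOfFinitePresentation) ‹_› Wi
  obtain ⟨l, sqW⟩ := exists_restrict sq Wi
  haveI := hνsurj; haveI := hνui
  obtain ⟨kJ, hkJ⟩ := AffLim.exists_surjective_baseChange D' c' hc' i (h ∣_ Wi) Wi.ι
    (isPullback_morphismRestrict (c'.π.app i) Wi) sqW
  obtain ⟨kU, hkU⟩ := AffLim.exists_universallyInjective_baseChange D' c' hc' i (h ∣_ Wi) Wi.ι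
    (isPullback_morphismRestrict (c'.π.app i) Wi) sqW
  -- the complement
  let J := Scheme.IdealSheafData.vanishingIdeal (⟨(Wi : Set (D'.obj i))ᶜ, Wi.2.isClosed_compl⟩ : Closeds (D'.obj i))
  let j : J.subscheme ⟶ D'.obj i := J.subschemeι
  haveI : IsClosedImmersion j := inferInstanceAs (IsClosedImmersion J.subschemeι)
  have hj : Set.range j = (Wi : Set (D'.obj i))ᶜ := by
    show Set.range J.subschemeι = _
    rw [Scheme.IdealSheafData.range_subschemeι, Scheme.IdealSheafData.coe_support_vanishingIdeal]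
    rfl
  haveI : IsLocallyNoetherian J.subscheme := LocallyOfFiniteType.isLocallyNoetherian j
  haveI : CompactSpace J.subscheme := QuasiCompact.compactSpace_of_compactSpace j
  haveI : IsNoetherian J.subscheme := {}
  let jΩ : pullback j (c'.π.app i) ⟶ pullback f gΩ := pullback.snd j (c'.π.app i)
  haveI : IsClosedImmersion jΩ := inferInstanceAs (IsClosedImmersion (pullback.snd _ _))
  have hjΩ : Set.range jΩ ⊆ ((c'.π.app i ⁻¹ᵁ Wi : (pullback f gΩ).Opens) : Set ↥(pullback f gΩ))ᶜ := by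
    show Set.range (pullback.snd j (c'.π.app i)) ⊆ _
    rw [Scheme.Pullback.range_snd, hj]
    exact subset_rfl
  haveI : Finite ↥(pullback j (c'.π.app i)) :=
    haveI := (hB.subset hjΩ).to_subtype
    Finite.of_injective_finite_range jΩ.isClosedEmbedding.injective
  haveI : LocallyQuasiFinite (jΩ ≫ qΩ) := .of_finite_preimage_singleton _ fun x => Set.toFinite _
  haveI : IsFinite (Y := c.pt) (jΩ ≫ qΩ) :=
    (IsFinite.iff_isProper_and_locallyQuasiFinite (f := jΩ ≫ qΩ)).2 ⟨inferInstance, inferInstance⟩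
  haveI : IsIntegralHom (Y := c.pt) (jΩ ≫ qΩ) := inferInstance
  let pj : J.subscheme ⟶ D.obj i := j ≫ pr
  haveI : LocallyOfFiniteType pj := inferInstanceAs (LocallyOfFiniteType (j ≫ pr))
  obtain ⟨kZ, hkZ⟩ := AffLim.exists_isFinite_baseChange D c hc i pj (𝟙 _) (hid (c.π.app i))
    ((IsPullback.of_hasPullback j (c'.π.app i)).paste_vert sqπ)
  -- a common stage
  let k := IsCofiltered.min (IsCofiltered.min (IsCofiltered.min kF kS) (IsCofiltered.min kJ kU)) kZ
  let k₁ := IsCofiltered.minToLeft (IsCofiltered.min (IsCofiltered.min kF kS) (IsCofiltered.min kJ kU)) kZ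
  let k₂ := k₁ ≫ IsCofiltered.minToLeft (IsCofiltered.min kF kS) (IsCofiltered.min kJ kU)
  let k₃ := k₁ ≫ IsCofiltered.minToRight (IsCofiltered.min kF kS) (IsCofiltered.min kJ kU)
  replace hkF := prop_stage D' @IsFinite h k
    (prop_later D' @IsFinite _ _ (k₂ ≫ IsCofiltered.minToLeft kF kS) hkF)
  replace hkS := prop_stage D @Smooth pi k
    (prop_later D @Smooth _ _ (k₂ ≫ IsCofiltered.minToRight kF kS) hkS)
  replace hkJ := prop_stage_restrict D' @Surjective h Wi k
    (prop_later D' @Surjective _ _ (k₃ ≫ IsCofiltered.minToLeft kJ kU) hkJ)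
  haveI := UniversallyInjective.respectsIso.{u}
  replace hkU := prop_stage_restrict D' @UniversallyInjective h Wi k
    (prop_later D' @UniversallyInjective _ _ (k₃ ≫ IsCofiltered.minToRight kJ kU) hkU)
  replace hkZ := prop_stage D @IsFinite pj k (prop_later D @IsFinite _ _ (IsCofiltered.minToRight _ kZ) hkZ)
  -- assembling
  let φ := D'.map k.hom
  let g : Spec (CommRingCat.of k.left.unop.1) ⟶ T := t.app k.left
  have sqk : IsPullback φ (pullback.snd f (t.app k.left)) pr (D.map k.hom) :=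
    isPullback_lift f (D.map k.hom) (by simpa using t.naturality k.hom) φ (by simp [φ, D']) (by simp [φ, D'])
  have hsmk : Smooth (pullback.snd h φ ≫ pullback.snd f (t.app k.left)) := by
    have s := (IsPullback.of_hasPullback h φ).paste_vert sqk
    rw [← s.isoPullback_hom_snd]
    exact (MorphismProperty.cancel_left_of_respectsIso @Smooth _ _).2 hkS
  have hfink : IsFinite (pullback.snd j φ ≫ pullback.snd f (t.app k.left)) := by
    have s := (IsPullback.of_hasPullback j φ).paste_vert sqk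
    rw [← s.isoPullback_hom_snd]
    exact (MorphismProperty.cancel_left_of_respectsIso @IsFinite _ _).2 hkZ
  haveI hft : LocallyOfFiniteType ((PropPi1.fgToBase A Ω).app k.left) :=
    (HasRingHomProperty.Spec_iff (P := @LocallyOfFiniteType)).2 (RingHom.finiteType_algebraMap.2 (hDft k.left))
  haveI : LocallyOfFiniteType g :=
    inferInstanceAs (LocallyOfFiniteType ((PropPi1.fgToBase A Ω).app k.left ≫ T.isoSpec.inv))
  haveI : QuasiCompact g := (HasAffineProperty.iff_of_isAffine (P := @QuasiCompact)).2 inferInstance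
  haveI hdom : IsDominant ((PropPi1.fgToBase A Ω).app k.left) := by
    refine ⟨(PrimeSpectrum.denseRange_comap_iff_ker_le_nilRadical _).2 ?_⟩
    have : Function.Injective (algebraMap A k.left.unop.1) := fun x y e => hinj (congrArg Subtype.val e)
    show RingHom.ker (algebraMap A k.left.unop.1) ≤ _
    rw [(RingHom.injective_iff_ker_eq_bot _).1 this]
    exact bot_le
  haveI : IsDominant g := inferInstanceAs (IsDominant ((PropPi1.fgToBase A Ω).app k.left ≫ T.isoSpec.inv))
  haveI hfk : IsFinite (pullback.snd h φ) := hkF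
  refine ⟨Spec (CommRingCat.of k.left.unop.1), g, inferInstance, inferInstance, inferInstance, inferInstance,
    inferInstance, inferInstance, pullback h φ, pullback.snd h φ, hfk, hsmk, φ ⁻¹ᵁ Wi, pullback j φ,
    pullback.snd j φ, inferInstance, fun s => dim_fiber_le f hdim g (pullback.snd h φ) s, hkJ, hkU, ?_, hfink⟩
  rw [Scheme.Pullback.range_snd, hj]
  rfl

end Groth.Agent.FinPushLib
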