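import Groth.Agent.FinPushLib.Core
import Groth.Agent.FinPushLib.CurveModel

/-!
# The model input of the finiteness theorem
-/

set_option autoImplicit false

universe u

open CategoryTheory CategoryTheory.Limits AlgebraicGeometry

namespace Groth.Agent.FinPushLib

/-- The normalisation of a relative curve spreads out to a smooth model. -/
theorem modelInput : ModelInput.{u} := by
  intro T _ _ _ X f _ hdim
  obtain ⟨T', g, _, h₁, h₂, h₃, h₄, h₅, Y, ν, h₆, h₇, W, Z, i, h₈, h⟩ := exists_smooth_model f hdim
  exact ⟨T', g, h₁, h₂, h₃, h₄, h₅, Y, ν, h₆, h₇, W, Z, i, h₈, h⟩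

end Groth.Agent.FinPushLib
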