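import Groth.Agent.FinPushLib.Approx
import Groth.Agent.PBCLib.PointH

/-!
# Finiteness of cohomology over a separably closed field
-/

set_option autoImplicit false
set_option backward.isDefEq.respectTransparency false
set_option backward.isDefEq.respectTransparency.types false
set_option linter.style.haveILetI false
set_option maxHeartbeats 1000000

universe u

open CategoryTheory CategoryTheory.Limits AlgebraicGeometry Opposite

noncomputable section

namespace Groth.Agent.FinPushLib

/-- Stalks of constructible sheaves are finite. -/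
theorem finite_stalk {X : Scheme.{u}} [CompactSpace X] [QuasiSeparatedSpace X] {F : EtCoh.Ab X}
    (hF : EtPBC.IsConstructible F) {Ω : Type u} [Field Ω] [IsSepClosed Ω] (ξ : Spec (CommRingCat.of Ω) ⟶ X) :
    Finite ((EtCoh.stalk ξ).obj F) := by
  obtain ⟨ι, _, U, M, θ, -, hM, h⟩ := FLCLib.exists_generators hF
  obtain ⟨i, l, hl⟩ := h Ω ξ
  haveI := hM i
  exact Finite.of_equiv (M i) (Equiv.ofBijective _ hl)

/-- Cohomology of a constructible sheaf on a proper scheme over a separably closed field is finite. -/
theorem finite_H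
    (H : ∀ {X S : Scheme.{u}} [IsNoetherian S] (f : X ⟶ S) [IsProper f] (q : ℕ), PushConstr f q)
    {k : Type u} [Field k] [IsSepClosed k] {X : Scheme.{u}} (a : X ⟶ Spec (CommRingCat.of k)) [IsProper a]
    (F : EtCoh.Ab X) (hF : EtPBC.IsConstructible F) (q : ℕ) : Finite (EtCoh.H X F q) := by
  obtain ⟨ε⟩ := PBCLib.nonempty_Rpush_gsec_natIso a q
  let R := (EtCoh.Rpush a q).obj F
  haveI : Finite ((EtCoh.stalk (𝟙 (Spec (CommRingCat.of k)))).obj R) := finite_stalk (H a q F hF) _
  haveI : Finite ((EtCoh.Rpush a q ⋙ StrictLocLib.gsecF (Spec (CommRingCat.of k))).obj F) :=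
    Finite.of_equiv _ ((PBCLib.gsecStalkIso k (𝟙 _)).app R).addCommGroupIsoToAddEquiv.symm.toEquiv
  exact Finite.of_equiv _ (ε.app F).addCommGroupIsoToAddEquiv.toEquiv

end Groth.Agent.FinPushLib
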