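import Groth.Agent.FinPushLib.Approx
import Groth.Agent.FLCLib.PushC
import Groth.Agent.CdFieldLib.Shriek
import Groth.Agent.CdFieldLib.PointRpush
import Groth.Agent.S4599

/-!
# Closed direct images of extensions by zero

For a closed immersion `i` which need not be of finite presentation, `i_* j_! F` is constructible as soon as
`F` is constructible and `j ≫ i` is of finite presentation over the base.
-/

set_option autoImplicit false
set_option backward.isDefEq.respectTransparency false
set_option backward.isDefEq.respectTransparency.types false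
set_option linter.style.haveILetI false
set_option linter.unusedSectionVars false
set_option maxHeartbeats 1000000
set_option synthInstance.maxHeartbeats 400000

universe u

open CategoryTheory CategoryTheory.Limits AlgebraicGeometry Opposite

attribute [local instance] Groth.Agent.S0101.result

noncomputable section

namespace Groth.Agent.FinPushLib

variable {X Z P Y : Scheme.{u}}

theorem lfp_of_comp (i : X ⟶ Y) (p : Y ⟶ Z) [LocallyOfFinitePresentation (i ≫ p)] [LocallyOfFiniteType p] :
    LocallyOfFinitePresentation i := by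
  haveI : MorphismProperty.IsMultiplicative (@LocallyOfFinitePresentation.{u}) := { id_mem := fun _ => inferInstance }
  haveI : MorphismProperty.HasOfPostcompProperty (@LocallyOfFinitePresentation.{u}) (@LocallyOfFiniteType.{u}) :=
    MorphismProperty.hasOfPostcompProperty_iff_le_diagonal.mpr fun _ _ f (_ : LocallyOfFiniteType f) =>
      S4599.result f
  exact MorphismProperty.of_postcomp @LocallyOfFinitePresentation (W' := @LocallyOfFiniteType) i p ‹_› ‹_›

/-- A quasi-compact open cutting out the image of an open immersion. -/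
theorem exists_open_preimage_eq (j : X ⟶ Z) [IsOpenImmersion j] [CompactSpace X] (i : Z ⟶ P) [IsClosedImmersion i] :
    ∃ V : P.Opens, IsCompact (V : Set P) ∧ i ⁻¹ᵁ V = j.opensRange := by
  classical
  obtain ⟨W, hW, hWj⟩ := i.isClosedEmbedding.isInducing.isOpen_iff.1 j.opensRange.2
  have hK : IsCompact (i '' (Set.range j)) := (isCompact_range j.continuous).image i.continuous
  have hsub : i '' Set.range j ⊆ W := by
    rintro _ ⟨z, hz, rfl⟩
    have : z ∈ i ⁻¹' W := by rw [hWj]; exact hz
    exact this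
  have key : ∀ x : W, ∃ U : P.Opens, IsAffineOpen U ∧ x.1 ∈ U ∧ (U : Set P) ⊆ W := fun x =>
    exists_isAffineOpen_mem_and_subset (X := P) (U := ⟨W, hW⟩) x.2
  choose U hU hxU hUW using key
  obtain ⟨s, hs⟩ := hK.elim_finite_subcover (fun x : W => (U x : Set P)) (fun x => (U x).2)
    fun x hx => Set.mem_iUnion.2 ⟨⟨x, hsub hx⟩, hxU _⟩
  refine ⟨⟨⋃ x ∈ s, (U x : Set P), isOpen_biUnion fun x _ => (U x).2⟩,
    s.finite_toSet.isCompact_biUnion fun x _ => (hU x).isCompact, ?_⟩
  refine TopologicalSpace.Opens.ext (Set.Subset.antisymm ?_ ?_)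
  · intro z hz
    obtain ⟨x, -, hx⟩ := Set.mem_iUnion₂.1 (show i z ∈ ⋃ x ∈ s, (U x : Set P) from hz)
    have : z ∈ i ⁻¹' W := hUW x hx
    rw [hWj] at this
    exact this
  · exact fun z hz => hs ⟨z, hz, rfl⟩

/-- `i_* j_! F` is constructible. -/
theorem isConstructible_push_extZero (j : X ⟶ Z) [IsOpenImmersion j] [EtShriek.JCont j] (i : Z ⟶ P)
    [IsClosedImmersion i] (g : P ⟶ Y) [LocallyOfFinitePresentation g] [LocallyOfFinitePresentation (j ≫ i ≫ g)]
    [CompactSpace X] [QuasiSeparatedSpace X] [CompactSpace Z] [QuasiSeparatedSpace Z] [CompactSpace P]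
    [QuasiSeparatedSpace P] (F : EtCoh.Ab X) (hF : EtPBC.IsConstructible F) :
    EtPBC.IsConstructible ((EtCoh.push i).obj ((EtShriek.extZero j).obj F)) := by
  obtain ⟨V, hVc, hV⟩ := exists_open_preimage_eq j i
  let G := (EtShriek.extZero j).obj F
  have hG : EtPBC.IsConstructible G := FLCLib.isConstructible_extZero j hF
  let H := (EtCoh.push i).obj G
  haveI : EtShriek.JCont V.ι := EtJCont.jCont V.ι
  haveI : CompactSpace (V : Scheme.{u}) := isCompact_iff_compactSpace.1 hVc
  haveI : QuasiSeparatedSpace (V : Scheme.{u}) :=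
    quasiSeparatedSpace_of_quasiSeparated V.ι
  -- the restriction to the open
  haveI : IsFinite (i ∣_ V) := MorphismProperty.of_isPullback (isPullback_morphismRestrict i V).flip inferInstance
  haveI : LocallyOfFinitePresentation (i ∣_ V) := by
    haveI : LocallyOfFinitePresentation ((i ∣_ V) ≫ V.ι ≫ g) := by
      rw [morphismRestrict_ι_assoc]
      let e : (i ⁻¹ᵁ V).toScheme ≅ X := Z.isoOfEq hV ≪≫ j.isoOpensRange.symm
      have he : e.hom ≫ j = (i ⁻¹ᵁ V).ι := by simp [e]
      rw [← he, Category.assoc]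
      infer_instance
    exact lfp_of_comp (i ∣_ V) (V.ι ≫ g)
  haveI : CompactSpace (i ⁻¹ᵁ V).toScheme := QuasiCompact.compactSpace_of_compactSpace (i ∣_ V)
  haveI : QuasiSeparatedSpace (i ⁻¹ᵁ V).toScheme := quasiSeparatedSpace_of_quasiSeparated (i ∣_ V)
  obtain ⟨e₀⟩ := nonempty_pull_Rpush_iso i V.ι (i ∣_ V) (i ⁻¹ᵁ V).ι (isPullback_morphismRestrict i V).flip G
    (isTorsion_of_isConstructible hG) 0
  haveI := preservesFiniteLimits_push i
  haveI := preservesFiniteLimits_push (i ∣_ V)
  let e : (EtCoh.pull V.ι).obj H ≅ (EtCoh.push (i ∣_ V)).obj ((EtCoh.pull (i ⁻¹ᵁ V).ι).obj G) :=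
    (EtCoh.pull V.ι).mapIso (asIso ((EtCoh.push i).toRightDerivedZero.app G)) ≪≫ e₀ ≪≫
      (asIso ((EtCoh.push (i ∣_ V)).toRightDerivedZero.app _)).symm
  have hHV : EtPBC.IsConstructible ((EtCoh.pull V.ι).obj H) :=
    FLCLib.isConstructible_of_iso e.symm (S0137.result (i ∣_ V) _ (FLCLib.isConstructible_pull _ hG))
  -- outside the open the stalks vanish
  haveI := FLCLib.isIso_counit_of_supp V.ι H fun Ω _ _ ξ hξ => by
    let η := EtPtsLib.geomPtAlg (ξ default)
    have hη : η default ∉ Set.range V.ι := by rwa [EtPtsLib.geomPtAlg_default]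
    refine CdFieldLib.isZero_stalk_of_default_eq H (ξ₀ := η) ((FLCLib.subsingleton_iff_isZero _).1 ?_)
      (EtPtsLib.geomPtAlg_default _).symm
    haveI : ∀ ζ : EtaleSplit.GPts i η, Subsingleton ((EtCoh.stalk ζ.1).obj G) := fun ζ => by
      refine (FLCLib.subsingleton_iff_isZero _).2 (EtPtsLib.isZero_stalk_extZero j ζ.1 (fun h => hη ?_) F)
      have h' : ζ.1 default ∈ i ⁻¹ᵁ V := by rw [hV]; exact h
      rw [V.range_ι, ← ζ.2]
      exact h'
    exact (FLCLib.bijective_pushFamily i η G).1.subsingleton
  refine FLCLib.isConstructible_of_iso (asIso ((EtShriek.extZeroAdj V.ι).counit.app H))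
    (FLCLib.isConstructible_extZero V.ι (FLCLib.isConstructible_of_iso ((EtPtsLib.pullIsoRestr V.ι).app H) hHV))

end Groth.Agent.FinPushLib
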