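import Groth.Agent.FinPushLib.Five
import Groth.Agent.FinPushLib.ExtPush
import Groth.Agent.ShriekProper.Model
import Groth.Agent.SmoothBCLib.Comp

/-!
# Constructibility of direct images with proper support
-/

set_option autoImplicit false
set_option backward.isDefEq.respectTransparency false
set_option backward.isDefEq.respectTransparency.types false
set_option linter.style.haveILetI false
set_option linter.unusedSectionVars false
set_option maxHeartbeats 1000000
set_option synthInstance.maxHeartbeats 400000

universe u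

open CategoryTheory CategoryTheory.Limits AlgebraicGeometry Opposite

attribute [local instance] HasDerivedCategory.standard Groth.Agent.S0101.result

noncomputable section

namespace Groth.Agent.FinPushLib

/-- Constructible sheaves on a quasi-compact quasi-separated scheme and five term sequences. -/
theorem fiveClass (X : Scheme.{u}) [CompactSpace X] [QuasiSeparatedSpace X] :
    FiveClass (EtPBC.IsConstructible (X := X)) where
  zero _ h := FLCLib.isConstructible_of_isZero h
  of_iso e h := FLCLib.isConstructible_of_iso e h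
  five {A₁ A₂ A₃ A₄ A₅} f₀ f g k w₀ w₁ w₂ h₀ h₁ h₂ hA₁ hA₂ hA₄ hA₅ := by
    have hC := (FLCLib.isConstructible_kernel_cokernel f₀ hA₁ hA₂).2
    have hK := (FLCLib.isConstructible_kernel_cokernel k hA₄ hA₅).1
    let T : ShortComplex (EtCoh.Ab X) := ShortComplex.mk (cokernel.desc f₀ f w₀) (kernel.lift k g w₂)
      (by rw [← cancel_epi (cokernel.π f₀), ← cancel_mono (kernel.ι k)]; simp [w₁])
    haveI : Mono T.f := h₀.mono_cokernelDesc
    haveI : Epi T.g := h₂.epi_kernelLift
    have hT : T.ShortExact :=
      { exact := by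
          rw [ShortComplex.exact_iff_exact_up_to_refinements]
          intro B x hx
          have hx' : x ≫ g = 0 := by
            have := congrArg (fun m => m ≫ kernel.ι k) hx
            simpa [T] using this
          obtain ⟨B', π, hπ, y, hy⟩ := h₁.exact_up_to_refinements x hx'
          exact ⟨B', π, hπ, y ≫ cokernel.π f₀, by simpa [T] using hy⟩ }
    obtain ⟨a, ha, hA⟩ := FLCLib.exists_killedBy hC
    obtain ⟨c, hc, hC'⟩ := FLCLib.exists_killedBy hK
    exact S0132.result T hT (a * c) (Nat.mul_pos ha hc) (killedBy_of_exact T.f T.g T.zero hT.exact hA hC') hC hK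

/-- Higher direct images of `j_! F` along the proper morphism of a compactification. -/
theorem isConstructible_Rpush_extZero
    (H : ∀ {X S : Scheme.{u}} [IsNoetherian S] (f : X ⟶ S) [IsProper f] (q : ℕ), PushConstr f q)
    {X Z Y : Scheme.{u}} [CompactSpace Y] [QuasiSeparatedSpace Y] [CompactSpace X] [QuasiSeparatedSpace X]
    (j : X ⟶ Z) [IsOpenImmersion j] [EtShriek.JCont j] (p : Z ⟶ Y) [IsProper p]
    [LocallyOfFinitePresentation (j ≫ p)] (F : EtCoh.Ab X) (hF : EtPBC.IsConstructible F) (q : ℕ) :
    EtPBC.IsConstructible ((EtCoh.Rpush p q).obj ((EtShriek.extZero j).obj F)) := by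
  obtain ⟨J, _, _, _, D, c, hc, e, -, hobj⟩ := NApproxLib.exists_proper_limit p
  let k : Jᵒᵖ := op (Classical.arbitrary J)
  obtain ⟨hcl, hpr, hlfp⟩ := hobj k
  haveI := hcl
  haveI := hpr
  haveI := hlfp
  haveI : IsIso e.inv.left := inferInstanceAs (IsIso ((Over.forget Y).map e.inv))
  let i : Z ⟶ (D.obj k).left := e.inv.left ≫ (c.π.app k).left
  let g : (D.obj k).left ⟶ Y := (D.obj k).hom
  have hi : i ≫ g = p := by
    rw [Category.assoc]
    erw [Over.w (c.π.app k)]
    exact Over.w e.inv
  haveI : IsClosedImmersion i := inferInstance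
  haveI : IsProper g := hpr
  haveI : LocallyOfFinitePresentation g := hlfp
  haveI : CompactSpace Z := QuasiCompact.compactSpace_of_compactSpace p
  haveI : QuasiSeparatedSpace Z := quasiSeparatedSpace_of_quasiSeparated p
  haveI : CompactSpace ↥(D.obj k).left := QuasiCompact.compactSpace_of_compactSpace g
  haveI : QuasiSeparatedSpace ↥(D.obj k).left := quasiSeparatedSpace_of_quasiSeparated g
  haveI : LocallyOfFinitePresentation (j ≫ i ≫ g) := by rw [hi]; infer_instance
  let G := (EtShriek.extZero j).obj F
  have hH := pushConstr_of_lfp H g q _ (isConstructible_push_extZero j i g F hF)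
  rw [← hi]
  exact FLCLib.isConstructible_of_iso
    (SmoothBCLib.nonempty_Rpush_push_iso i g G (fun m => BlowSquareLib.isZero_Rpush_finite i _ m) q).some hH

/-- The cohomology sheaves of `Rf_!` of a bounded below constructible complex are constructible. -/
theorem isConstructible_HDEt_Rshriek
    (H : ∀ {X S : Scheme.{u}} [IsNoetherian S] (f : X ⟶ S) [IsProper f] (q : ℕ), PushConstr f q)
    {X Y : Scheme.{u}} [CompactSpace Y] [QuasiSeparatedSpace Y] [CompactSpace X] [QuasiSeparatedSpace X]
    {f : X ⟶ Y} [LocallyOfFinitePresentation f] (c : DEt.Compactification f)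
    [PreservesFiniteLimits (EtShriek.extZero c.j)] [DCoh.HasRpushEt c.Xbar c.fbar] (K : DCoh.DEt X) (a : ℤ)
    (ha : ∀ n : ℤ, n < a → IsZero (DCoh.HDEt K n)) (hc : ∀ n : ℤ, EtPBC.IsConstructible (DCoh.HDEt K n)) (n : ℤ) :
    EtPBC.IsConstructible (DCoh.HDEt ((DEt.Rshriek c).obj K) n) := by
  haveI : CompactSpace ↥c.Xbar := QuasiCompact.compactSpace_of_compactSpace c.fbar
  haveI : PreservesColimitsOfSize.{0, 0} (EtShriek.extZero c.j) := (EtShriek.extZeroAdj c.j).leftAdjoint_preservesColimits
  haveI : PreservesFiniteColimits (EtShriek.extZero c.j) := PreservesColimitsOfSize.preservesFiniteColimits _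
  let E := (DEt.extZeroD c.j).obj K
  let eH : ∀ i, DCoh.HDEt E i ≅ (EtShriek.extZero c.j).obj (DCoh.HDEt K i) := fun i =>
    (TildeD.nu (EtShriek.extZero c.j) i).app K
  haveI : E.IsGE a := (DerivedCategory.isGE_iff _ _).2 fun i hi =>
    ((EtShriek.extZero c.j).map_isZero (ha i hi)).of_iso (eH i)
  obtain ⟨T, hT, -, hac, ⟨eT⟩⟩ := ShriekProper.exists_torsion_model E a fun i =>
    PBCLib.isTorsion_of_epi (eH i).inv (CdFieldLib.isTorsion_extZero c.j (isTorsion_of_isConstructible (hc i)))
  haveI := hT
  obtain ⟨eP⟩ := ShriekProper.nonempty_Rpush_Q c.fbar T a (hac c.fbar)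
  haveI := preservesFiniteLimits_push c.fbar
  haveI : LocallyOfFinitePresentation (c.j ≫ c.fbar) := by rw [c.fac]; infer_instance
  refine FLCLib.isConstructible_of_iso
    (((DerivedCategory.homologyFunctorFactors _ n).app _).symm ≪≫
      (DerivedCategory.homologyFunctor _ n).mapIso (eP.symm ≪≫ (DCoh.RpushEt c.Xbar c.fbar).mapIso eT))
    (homology_map_mem_int (EtCoh.push c.fbar) (fiveClass Y) T a (hac c.fbar) (fun p i => ?_) n)
  let e : T.homology i ≅ (EtShriek.extZero c.j).obj (DCoh.HDEt K i) :=
    ((DerivedCategory.homologyFunctorFactors _ i).app T).symm ≪≫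
      (DerivedCategory.homologyFunctor _ i).mapIso eT ≪≫ eH i
  exact FLCLib.isConstructible_of_iso ((EtCoh.Rpush c.fbar p).mapIso e).symm
    (isConstructible_Rpush_extZero H c.j c.fbar _ (hc i) p)

/-- The cohomology sheaves of a sheaf in degree zero. -/
theorem single_HDEt {X : Scheme.{u}} [CompactSpace X] [QuasiSeparatedSpace X] (F : EtCoh.Ab X)
    (hF : EtPBC.IsConstructible F) :
    (∀ n : ℤ, n < 0 → IsZero (DCoh.HDEt ((DerivedCategory.singleFunctor (EtCoh.Ab X) 0).obj F) n)) ∧
      ∀ n : ℤ, EtPBC.IsConstructible (DCoh.HDEt ((DerivedCategory.singleFunctor (EtCoh.Ab X) 0).obj F) n) := by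
  refine ⟨fun n hn => DerivedCategory.isZero_of_isGE _ 0 n hn, fun n => ?_⟩
  rcases lt_trichotomy n 0 with hn | rfl | hn
  · exact FLCLib.isConstructible_of_isZero (DerivedCategory.isZero_of_isGE _ 0 n hn)
  · exact FLCLib.isConstructible_of_iso
      ((DerivedCategory.singleFunctorCompHomologyFunctorIso (EtCoh.Ab X) 0).app F).symm hF
  · exact FLCLib.isConstructible_of_isZero (DerivedCategory.isZero_of_isLE _ 0 n hn)

end Groth.Agent.FinPushLib
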