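import Groth.Agent.FinPushLib.Assemble
import Groth.Agent.FinPushLib.FieldFin
import Groth.Agent.FinPushLib.Shriek
import Groth.Agent.SylowFiltLib.Step
import Groth.Prelude.Def_DEt2

/-!
# The finiteness theorem for proper morphisms, from the two inputs on curves
-/

set_option autoImplicit false
set_option backward.isDefEq.respectTransparency false
set_option backward.isDefEq.respectTransparency.types false
set_option linter.style.haveILetI false
set_option maxHeartbeats 1000000

universe u

open CategoryTheory CategoryTheory.Limits AlgebraicGeometry Opposite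

attribute [local instance] HasDerivedCategory.standard

noncomputable section

namespace Groth.Agent.FinPushLib

variable (hsm : SmoothCurveInput.{u}) (hmod : ModelInput.{u})
include hsm hmod

/-- Proper morphisms of finite presentation. -/
theorem isConstructible_Rpush {X S : Scheme.{u}} (f : X ⟶ S) [IsProper f] [LocallyOfFinitePresentation f]
    (n : ℕ) (hn : 0 < n) (F : EtCoh.Ab X) (hF : EtPBC.IsConstructible F) (hFn : EtCoh.KilledBy n F) (q : ℕ) :
    EtPBC.IsConstructible ((EtCoh.Rpush f q).obj F) :=
  isConstructible_Rpush_of_lfp (fun f _ q => pushConstr_of_inputs hsm hmod f q) f F hF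
    (PBCLib.isTorsion_of_killedBy' hn hFn) q

/-- Constant coefficients on proper morphisms of finite presentation. -/
theorem isConstructible_Rpush_const {X S : Scheme.{u}} (f : X ⟶ S) [IsProper f] [LocallyOfFinitePresentation f]
    (M : Type) [AddCommGroup M] [Finite M] (q : ℕ) :
    EtPBC.IsConstructible ((EtCoh.Rpush f q).obj (EtCoh.const X M)) := by
  refine isConstructible_Rpush_of_lfp (fun f _ q => pushConstr_of_inputs hsm hmod f q) f _
    (FLCLib.isConstructible_of_flc (SylowFiltLib.isFiniteLocallyConstant_const X M))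
    (PBCLib.isTorsion_of_killedBy' (Nat.card_pos (α := M)) ?_) q
  rw [FLCLib.killedBy_iff]
  have hM : Nat.card M • 𝟙 (AddCommGrpCat.of (ULift.{u + 1} M)) = 0 := by
    ext x
    exact (card_nsmul_eq_zero' : Nat.card M • x.down = 0)
  have h1 := congrArg ((constantSheaf X.smallEtaleTopology AddCommGrpCat.{u + 1}).map) hM
  rw [Functor.map_nsmul, Functor.map_zero, CategoryTheory.Functor.map_id] at h1
  exact h1

/-- Finiteness over a separably closed field. -/
theorem finite_H_of_inputs {k : Type u} [Field k] [IsSepClosed k] {X : Scheme.{u}}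
    (a : X ⟶ Spec (CommRingCat.of k)) [IsProper a] (F : EtCoh.Ab X) (hF : EtPBC.IsConstructible F) (q : ℕ) :
    Finite (EtCoh.H X F q) :=
  finite_H (fun f _ q => pushConstr_of_inputs hsm hmod f q) a F hF q

/-- Direct images with proper support. -/
theorem isConstructible_Rshriek {X Y : Scheme.{u}} [CompactSpace X] [QuasiSeparatedSpace X] [CompactSpace Y]
    [QuasiSeparatedSpace Y] {f : X ⟶ Y} [LocallyOfFinitePresentation f] (c : DEt.Compactification f)
    [PreservesFiniteLimits (EtShriek.extZero c.j)] [DCoh.HasRpushEt c.Xbar c.fbar] (K : DCoh.DEt X) (a : ℤ)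
    (ha : ∀ n : ℤ, n < a → IsZero (DCoh.HDEt K n)) (hc : ∀ n : ℤ, EtPBC.IsConstructible (DCoh.HDEt K n)) (n : ℤ) :
    EtPBC.IsConstructible (DCoh.HDEt ((DEt.Rshriek c).obj K) n) :=
  isConstructible_HDEt_Rshriek (fun f _ q => pushConstr_of_inputs hsm hmod f q) c K a ha hc n

/-- Direct images with proper support of a sheaf. -/
theorem isConstructible_Rshriek_single {X Y : Scheme.{u}} [CompactSpace X] [QuasiSeparatedSpace X] [CompactSpace Y]
    [QuasiSeparatedSpace Y] {f : X ⟶ Y} [LocallyOfFinitePresentation f] (c : DEt.Compactification f)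
    [PreservesFiniteLimits (EtShriek.extZero c.j)] [DCoh.HasRpushEt c.Xbar c.fbar] (F : EtCoh.Ab X)
    (hc : EtPBC.IsConstructible F) (n : ℤ) :
    EtPBC.IsConstructible (DCoh.HDEt ((DEt.Rshriek c).obj
      ((DerivedCategory.singleFunctor (EtCoh.Ab X) 0).obj F)) n) :=
  isConstructible_Rshriek hsm hmod c _ 0 (single_HDEt F hc).1 (single_HDEt F hc).2 n

end Groth.Agent.FinPushLib
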