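import Groth.Agent.EtJCont.Basic
import Groth.Agent.ShriekProper.Proper
import Groth.Agent.ShriekProper.Model
import Groth.Agent.S0385
import Groth.Prelude.Def_PBC

/-!
# The two extensions by zero of a constant sheaf, and their factorisation through a finite morphism
-/

set_option autoImplicit false
set_option backward.isDefEq.respectTransparency false
set_option backward.isDefEq.respectTransparency.types false
set_option linter.style.haveILetI false
set_option maxHeartbeats 1000000
set_option synthInstance.maxHeartbeats 400000

universe u

open CategoryTheory CategoryTheory.Limits AlgebraicGeometry Opposite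

attribute [local instance] Groth.Agent.S0101.result

noncomputable section

namespace Groth.Agent.FinPushLib

variable {X : Scheme.{u}}

/-- `j_! M` over the over-site is `j_!` of the constant sheaf on the source. -/
def extZeroConstIso (U : X.Etale) [EtShriek.JCont U.hom] [AlgebraicGeometry.Etale U.hom] (M : Type) [AddCommGroup M] :
    EtPBC.extZeroConst U M ≅ (EtShriek.extZero U.hom).obj (EtCoh.const U.left M) :=
  let A := (constantSheafAdj (X.smallEtaleTopology.over U) AddCommGrpCat.{u + 1} (Over.mkIdTerminal (X := U))).comp
    (EtPBC.extZeroAdj U)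
  let B := (constantSheafAdj U.left.smallEtaleTopology AddCommGrpCat.{u + 1}
    (MorphismProperty.Over.mkIdTerminal (P := EtCoh.etaleMP) (X := U.left))).comp (EtShriek.extZeroAdj U.hom)
  let i : (EtShriek.compEtale U.hom).obj (EtCoh.top U.left) ≅ U :=
    MorphismProperty.Over.isoMk (Iso.refl _) ((Category.id_comp _).trans (Category.id_comp _).symm)
  (Adjunction.leftAdjointUniq A (B.ofNatIsoRight
    (NatIso.ofComponents (fun G => (G.obj.mapIso i.op).symm) fun {G H} a => by
      exact (a.hom.naturality i.inv.op).symm))).app (AddCommGrpCat.of (ULift.{u + 1} M))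

/-- `j_!` of a constant sheaf is a direct image under a finite morphism of an open extension by zero. -/
theorem exists_extZeroConst_iso [CompactSpace X] [QuasiSeparatedSpace X] [X.IsSeparated] (U : X.Etale)
    [IsAffine U.left] (M : Type) [AddCommGroup M] :
    ∃ (X' : Scheme.{u}) (j : U.left ⟶ X') (π : X' ⟶ X) (_ : IsOpenImmersion j) (_ : EtShriek.JCont j)
      (_ : IsFinite π),
      Nonempty (EtPBC.extZeroConst U M ≅ (EtCoh.push π).obj ((EtShriek.extZero j).obj (EtCoh.const U.left M))) := by
  haveI : AlgebraicGeometry.Etale U.hom := U.prop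
  haveI : EtShriek.JCont U.hom := EtJCont.jCont U.hom
  haveI : LocallyQuasiFinite U.hom := EtPointClass.lqf_of_etale U.hom
  haveI : CompactSpace ((Functor.fromPUnit X).obj U.right) := (inferInstance : CompactSpace X)
  haveI : QuasiSeparatedSpace ((Functor.fromPUnit X).obj U.right) := (inferInstance : QuasiSeparatedSpace X)
  haveI : CompactSpace ((𝟭 Scheme).obj U.left) := (inferInstance : CompactSpace U.left)
  haveI : IsSeparated (U.hom ≫ terminal.from _) := by
    rw [terminal.comp_from]; exact inferInstanceAs (IsSeparated (terminal.from U.left))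
  haveI : IsSeparated U.hom := IsSeparated.of_comp _ (terminal.from _)
  haveI : QuasiCompact U.hom := inferInstance
  obtain ⟨X', j, π, hj, -, hπ, hjπ⟩ := Groth.Agent.S0385.result U.hom
  haveI : EtShriek.JCont j := EtJCont.jCont j
  haveI : LocallyQuasiFinite (j ≫ π) := by rw [hjπ]; infer_instance
  haveI := ShriekProper.isIso_extZeroToLowerShriek_open j
  haveI := ShriekLib.isIso_extZeroToLowerShriek U.hom
  refine ⟨X', j, π, hj, inferInstance, hπ, ⟨extZeroConstIso U M ≪≫
    (asIso (ShriekLib.extZeroToLowerShriek U.hom)).app _ ≪≫ eqToIso (by rw [hjπ]) ≪≫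
    ((Functor.isoWhiskerRight (asIso (ShriekLib.extZeroToLowerShriek j)) _ ≪≫
      ShriekProper.lowerShriekPushCompIso j π).app _).symm⟩⟩

end Groth.Agent.FinPushLib
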