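import Groth.Agent.FinPushLib.GenC
import Groth.Agent.FinPushLib.ShriekConst
import Groth.Agent.SmoothBCLib.Comp
import Groth.Agent.BlowSquareLib.Square
import Groth.Agent.EtPtsLib.IntegralUI
import Groth.Agent.CdFieldLib.Rows
import Groth.Agent.S0133
import Groth.Agent.S0138
import Groth.Agent.S0621
import Groth.Agent.S9683
import Groth.Agent.S9777

/-!
# The relative curve: generic constructibility of the higher direct images

Given the two inputs on smooth relative curves and on models of the normalisation, the higher direct images of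
constructible sheaves along a proper morphism with fibres of dimension at most one are generically constructible.
-/

set_option autoImplicit false
set_option backward.isDefEq.respectTransparency false
set_option backward.isDefEq.respectTransparency.types false
set_option linter.style.haveILetI false
set_option linter.unusedSectionVars false
set_option maxHeartbeats 2000000
set_option synthInstance.maxHeartbeats 400000

universe u

open CategoryTheory CategoryTheory.Limits AlgebraicGeometry Opposite TopologicalSpace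

attribute [local instance] Groth.Agent.S0101.result

noncomputable section

namespace Groth.Agent.FinPushLib

/-- Input: smooth proper relative curves with constant coefficients. -/
def SmoothCurveInput : Prop :=
  ∀ {X S : Scheme.{u}} [IsNoetherian S] (f : X ⟶ S) [IsProper f] [Smooth f],
    (∀ s : S, topologicalKrullDim (f.fiber s) ≤ 1) → ∀ (p : ℕ) [Fact p.Prime],
      IsUnit (p : Γ(S, ⊤)) ∨ (p : Γ(S, ⊤)) = 0 →
        ∀ q : ℕ, EtPBC.IsConstructible ((EtCoh.Rpush f q).obj (EtCoh.const X (ZMod p)))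

/-- Input: after a dominant base change the normalisation of a relative curve is a smooth model, radicial over
an open whose complement is finite over the base. -/
def ModelInput : Prop :=
  ∀ {T : Scheme.{u}} [IsNoetherian T] [IsIntegral T] [IsAffine T] {X : Scheme.{u}} (f : X ⟶ T) [IsProper f],
    (∀ t : T, topologicalKrullDim (f.fiber t) ≤ 1) →
      ∃ (T' : Scheme.{u}) (g : T' ⟶ T) (_ : IsNoetherian T') (_ : IsIntegral T') (_ : LocallyOfFiniteType g)
        (_ : QuasiCompact g) (_ : IsDominant g) (Y : Scheme.{u}) (ν : Y ⟶ pullback f g) (_ : IsFinite ν)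
        (_ : Smooth (ν ≫ pullback.snd f g)) (W : (pullback f g).Opens) (Z : Scheme.{u}) (i : Z ⟶ pullback f g)
        (_ : IsClosedImmersion i), (∀ t : T', topologicalKrullDim ((ν ≫ pullback.snd f g).fiber t) ≤ 1) ∧
          Surjective (ν ∣_ W) ∧ UniversallyInjective (ν ∣_ W) ∧ Set.range i = (W : Set ↥(pullback f g))ᶜ ∧
          IsFinite (i ≫ pullback.snd f g)

theorem biproduct_mem {D : Type*} [Category D] [Abelian D] [HasFiniteBiproducts D] {P : D → Prop} (hP : MidClass P) :
    ∀ {r : ℕ} (E : Fin r → D), (∀ i, P (E i)) → P (⨁ E)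
  | 0, E, _ => hP.zero _ ((IsZero.iff_id_eq_zero _).2 (biproduct.hom_ext _ _ fun i => i.elim0))
  | r + 1, E, h => by
    refine hP.of_iso (FLCLib.biproductSuccIso E).symm ?_
    exact hP.mid (ShortComplex.mk biprod.inl biprod.snd (by simp))
      (ShortComplex.Splitting.ofHasBinaryBiproduct (E 0) (⨁ fun i : Fin r => E i.succ)).shortExact.exact (h 0)
      (biproduct_mem hP _ fun i => h i.succ)

/-- Composing with an integral morphism does not increase the fibre dimensions. -/
theorem dim_fiber_comp_le {X' X T : Scheme.{u}} (ρ : X' ⟶ X) [IsIntegralHom ρ] (f : X ⟶ T) (t : T) :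
    topologicalKrullDim ((ρ ≫ f).fiber t) ≤ topologicalKrullDim (f.fiber t) := by
  let m : pullback (ρ ≫ f) (T.fromSpecResidueField t) ⟶ pullback f (T.fromSpecResidueField t) :=
    pullback.map _ _ _ _ ρ (𝟙 _) (𝟙 _) (by simp) (by simp)
  have h₁ : m ≫ pullback.fst _ _ = pullback.fst _ _ ≫ ρ := pullback.lift_fst _ _ _
  have h₂ : m ≫ pullback.snd _ _ = pullback.snd _ _ := (pullback.lift_snd _ _ _).trans (Category.comp_id _)
  have hsq : IsPullback (pullback.fst (ρ ≫ f) (T.fromSpecResidueField t)) m ρ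
      (pullback.fst f (T.fromSpecResidueField t)) :=
    IsPullback.of_bot (h₂.symm ▸ IsPullback.of_hasPullback (ρ ≫ f) (T.fromSpecResidueField t)) h₁.symm
      (IsPullback.of_hasPullback f (T.fromSpecResidueField t))
  haveI : IsIntegralHom m := MorphismProperty.of_isPullback hsq ‹_›
  exact (Groth.Agent.S9683.result m).1

theorem dim_fiber_pullback {X T T' : Scheme.{u}} (f : X ⟶ T) [QuasiCompact f] [LocallyOfFiniteType f] (g : T' ⟶ T)
    (t : T') : topologicalKrullDim ((pullback.snd f g).fiber t) = topologicalKrullDim (f.fiber (g t)) :=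
  Groth.Agent.S9777.result f g (pullback.snd f g) (pullback.fst f g) (IsPullback.of_hasPullback f g) t

section Units

variable {X Y : Scheme.{u}}

/-- The unit of a universal homeomorphism is an isomorphism. -/
theorem isIso_unit_of_universalHomeo (f : X ⟶ Y) [IsIntegralHom f] [UniversallyInjective f] [Surjective f]
    (G : EtCoh.Ab Y) : IsIso ((EtCoh.pullPushAdj f).unit.app G) := by
  obtain ⟨hfull, hfaith⟩ := EtPtsLib.fullyFaithful_integral f
  haveI := hfull
  haveI := hfaith
  refine (EtCoh.pullPushAdj f).isIso_unit_app_iff_mem_essImage.2 ((EtPtsLib.essImage_integral f G).2 ?_)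
  rw [Set.range_eq_univ.2 f.surjective]
  exact Set.subset_univ _

end Units

theorem isZero_stalk_of_isZero_pull {X W : Scheme.{u}} (j : W ⟶ X) [IsOpenImmersion j] {A : EtCoh.Ab X}
    (h : IsZero ((EtCoh.pull j).obj A)) : EtPBC.supp A ⊆ (Set.range j)ᶜ := by
  intro x hx hxj
  obtain ⟨Ω, _, _, ξ, rfl, hne⟩ := CdFieldLib.exists_default_of_mem_supp hx
  obtain ⟨θ, rfl⟩ := EtPtsLib.exists_comp_eq j ξ hxj
  exact hne (((EtCoh.stalk θ).map_isZero h).of_iso (CdFieldLib.stalkCompIso j θ _).symm)

/-- A constructible sheaf supported in a closed subscheme finite over the base. -/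
theorem constr_Rpush_of_supp {X S Z : Scheme.{u}} [IsNoetherian S] (f : X ⟶ S) (i : Z ⟶ X) [IsClosedImmersion i]
    [IsFinite (i ≫ f)] (A : EtCoh.Ab X) (hA : EtPBC.IsConstructible A) (hs : EtPBC.supp A ⊆ Set.range i) (q : ℕ) :
    EtPBC.IsConstructible ((EtCoh.Rpush f q).obj A) := by
  haveI : IsNoetherian Z :=
    haveI := LocallyOfFiniteType.isLocallyNoetherian (i ≫ f)
    haveI := QuasiCompact.compactSpace_of_compactSpace (i ≫ f)
    {}
  haveI := CdFieldLib.isIso_unit_of_supp_closed i A hs
  exact FLCLib.isConstructible_of_iso ((EtCoh.Rpush f q).mapIso (asIso ((EtCoh.pullPushAdj i).unit.app A)) ≪≫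
    (SmoothBCLib.nonempty_Rpush_push_iso i f _ (fun m => BlowSquareLib.isZero_Rpush_finite i _ m) q).some).symm
    (pushConstr_finite (i ≫ f) q _ (FLCLib.isConstructible_pull i hA))

theorem constr_const_of_finite (X : Scheme.{u}) [IsNoetherian X] (n : ℕ) (hn : 0 < n) :
    EtPBC.IsConstructible (EtCoh.const X (ZMod n)) := by
  haveI : NeZero n := ⟨hn.ne'⟩
  exact FLCLib.isConstructible_of_flc ((FLCLib.finiteLocallyConstant_iff _).2 fun x =>
    ⟨EtCoh.top X, AddCommGrpCat.of (ULift.{u + 1} (ZMod n)), EtPtsLib.cst _ _, ⟨x, rfl⟩,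
      (inferInstance : Finite (ULift.{u + 1} (ZMod n))), fun Ω _ _ ξ l => EtPtsLib.germ_cst_bijective ξ _ l⟩)

/-- Constant coefficients on the base changed curve with a smooth model. -/
theorem constr_Rpush_const_of_model (hsm : SmoothCurveInput.{u}) {X S Y Z : Scheme.{u}} [IsNoetherian S]
    (f : X ⟶ S) [IsProper f] (ν : Y ⟶ X) [IsFinite ν] [Smooth (ν ≫ f)]
    (hdim : ∀ s : S, topologicalKrullDim ((ν ≫ f).fiber s) ≤ 1) (W : X.Opens) [Surjective (ν ∣_ W)]
    [UniversallyInjective (ν ∣_ W)] (i : Z ⟶ X) [IsClosedImmersion i] [IsFinite (i ≫ f)]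
    (hi : Set.range i = (W : Set X)ᶜ) (p : ℕ) [hp : Fact p.Prime] (hpS : IsUnit (p : Γ(S, ⊤)) ∨ (p : Γ(S, ⊤)) = 0)
    (q : ℕ) : EtPBC.IsConstructible ((EtCoh.Rpush f q).obj (EtCoh.const X (ZMod p))) := by
  haveI : IsNoetherian X :=
    haveI := LocallyOfFiniteType.isLocallyNoetherian f
    haveI := QuasiCompact.compactSpace_of_compactSpace f
    {}
  haveI : IsNoetherian Y :=
    haveI := LocallyOfFiniteType.isLocallyNoetherian ν
    haveI := QuasiCompact.compactSpace_of_compactSpace ν
    {}
  let C := EtCoh.const X (ZMod p)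
  have hC : EtPBC.IsConstructible C := constr_const_of_finite X p hp.out.pos
  let M := (EtCoh.push ν).obj ((EtCoh.pull ν).obj C)
  let φ : C ⟶ M := (EtCoh.pullPushAdj ν).unit.app C
  haveI := preservesFiniteLimits_push ν
  have hM : EtPBC.IsConstructible M :=
    FLCLib.isConstructible_of_iso (asIso ((EtCoh.push ν).toRightDerivedZero.app _)).symm
      (pushConstr_finite ν 0 _ (FLCLib.isConstructible_pull ν hC))
  have hRM : EtPBC.IsConstructible ((EtCoh.Rpush f q).obj M) := by
    haveI : IsProper (ν ≫ f) := inferInstance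
    refine FLCLib.isConstructible_of_iso ((SmoothBCLib.nonempty_Rpush_push_iso ν f _
      (fun m => BlowSquareLib.isZero_Rpush_finite ν _ m) q).some ≪≫
        (EtCoh.Rpush (ν ≫ f) q).mapIso (EtCore.pullConst ν (ZMod p))).symm (hsm (ν ≫ f) hdim p hpS q)
  have hW : IsIso ((EtCoh.pull W.ι).map φ) := by
    haveI : IsFinite (ν ∣_ W) := MorphismProperty.of_isPullback (isPullback_morphismRestrict ν W).flip ‹_›
    haveI := isIso_unit_of_universalHomeo (ν ∣_ W) ((EtCoh.pull W.ι).obj C)
    haveI := Groth.Agent.S0621.result ν W.ι (ν ∣_ W) (ν ⁻¹ᵁ W).ι (isPullback_morphismRestrict ν W).flip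
      ((EtCoh.pull ν).obj C)
    exact IsIso.of_isIso_fac_right
      (CompBCLib.pull_unit_baseChange0 ν W.ι (ν ∣_ W) (ν ⁻¹ᵁ W).ι (isPullback_morphismRestrict ν W).flip.w C)
  haveI := BCDLib.rightExactPull W.ι
  have hsK : EtPBC.supp (kernel φ) ⊆ Set.range i := by
    rw [hi, ← Scheme.Opens.range_ι W]
    refine isZero_stalk_of_isZero_pull W.ι ?_
    exact (isZero_kernel_of_mono ((EtCoh.pull W.ι).map φ)).of_iso (PreservesKernel.iso (EtCoh.pull W.ι) φ)
  have hsQ : EtPBC.supp (cokernel φ) ⊆ Set.range i := by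
    rw [hi, ← Scheme.Opens.range_ι W]
    refine isZero_stalk_of_isZero_pull W.ι ?_
    exact (isZero_cokernel_of_epi ((EtCoh.pull W.ι).map φ)).of_iso (PreservesCokernel.iso (EtCoh.pull W.ι) φ)
  have mc := midClass (X := X)
  have hK : EtPBC.IsConstructible (kernel φ) := mc.of_mono (kernel.ι φ) hC
  have hQ : EtPBC.IsConstructible (cokernel φ) := mc.of_epi (cokernel.π φ) hM
  obtain ⟨Δ⟩ := RDerLib.nonempty_derivedLES (EtCoh.push f)
  let S₁ : ShortComplex (EtCoh.Ab X) :=
    ShortComplex.mk (kernel.ι φ) (cokernel.π (kernel.ι φ)) (cokernel.condition _)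
  have hS₁ : S₁.ShortExact := { exact := ShortComplex.exact_cokernel _ }
  let S₂ : ShortComplex (EtCoh.Ab X) :=
    ShortComplex.mk (Abelian.factorThruCoimage φ) (cokernel.π φ) (by
      rw [← cancel_epi (Abelian.coimage.π φ), ← Category.assoc, Abelian.coimage.fac, cokernel.condition, comp_zero])
  have hS₂ : S₂.ShortExact :=
    { exact := ShortComplex.exact_of_g_is_cokernel _
        (CokernelCofork.IsColimit.ofπ' _ _ fun {A} k hk => ⟨cokernel.desc φ k (by
          rw [← Abelian.coimage.fac φ, Category.assoc]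
          show Abelian.coimage.π φ ≫ Abelian.factorThruCoimage φ ≫ k = 0
          rw [show Abelian.factorThruCoimage φ ≫ k = 0 from hk, comp_zero]), cokernel.π_desc _ _ _⟩)
      mono_f := inferInstanceAs (Mono (Abelian.factorThruCoimage φ))
      epi_g := inferInstanceAs (Epi (cokernel.π φ)) }
  have ms := midClass (X := S)
  have hI : EtPBC.IsConstructible ((EtCoh.Rpush f q).obj S₂.X₁) := by
    rcases q with _ | q
    · haveI : Mono ((EtCoh.Rpush f 0).map S₂.f) := by
        haveI := hS₂.mono_f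
        haveI := preservesFiniteLimits_push f
        exact mono_rightDerived_zero (EtCoh.push f) S₂.f
      exact ms.of_mono ((EtCoh.Rpush f 0).map S₂.f) hRM
    · exact ms.mid _ (Δ.exact₁ S₂ hS₂ q (q + 1) rfl) (constr_Rpush_of_supp f i _ hQ hsQ q) hRM
  exact ms.mid _ (Δ.exact₂ S₁ hS₁ q) (constr_Rpush_of_supp f i _ hK hsK q) hI

/-- Pulling back a higher direct image of a constant sheaf. -/
theorem nonempty_pull_Rpush_const {X T T' : Scheme.{u}} [CompactSpace X] [QuasiSeparatedSpace X] (f : X ⟶ T)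
    [IsProper f] (g : T' ⟶ T) (n : ℕ) (hn : 0 < n) (q : ℕ) :
    Nonempty ((EtCoh.pull g).obj ((EtCoh.Rpush f q).obj (EtCoh.const X (ZMod n))) ≅
      (EtCoh.Rpush (pullback.snd f g) q).obj (EtCoh.const (pullback f g) (ZMod n))) := by
  obtain ⟨e⟩ := nonempty_pull_Rpush_iso f g (pullback.snd f g) (pullback.fst f g)
    (IsPullback.of_hasPullback f g) (EtCoh.const X (ZMod n))
    (PBCLib.isTorsion_of_killedBy' hn (PBCLib.killedBy_const X n)) q
  exact ⟨e ≪≫ (EtCoh.Rpush _ q).mapIso (EtCore.pullConst (pullback.fst f g) (ZMod n))⟩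

theorem natCast_isUnit_or_zero_of_hom {S S' : Scheme.{u}} (g : S' ⟶ S) {p : ℕ}
    (h : IsUnit (p : Γ(S, ⊤)) ∨ (p : Γ(S, ⊤)) = 0) : IsUnit (p : Γ(S', ⊤)) ∨ (p : Γ(S', ⊤)) = 0 := by
  rcases h with h | h
  · exact Or.inl (by simpa using h.map g.appTop.hom)
  · exact Or.inr (by simpa using congrArg g.appTop.hom h)

/-- Constant coefficients, prime case. -/
theorem genC_const_prime (hsm : SmoothCurveInput.{u}) (hmod : ModelInput.{u}) {T : Scheme.{u}} [IsNoetherian T]
    [IsIntegral T] [IsAffine T] {X : Scheme.{u}} (f : X ⟶ T) [IsProper f]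
    (hdim : ∀ t : T, topologicalKrullDim (f.fiber t) ≤ 1) (p : ℕ) [Fact p.Prime] (q : ℕ) :
    GenC ((EtCoh.Rpush f q).obj (EtCoh.const X (ZMod p))) := by
  have main : ∀ {T₁ : Scheme.{u}} [IsNoetherian T₁] [IsIntegral T₁] [IsAffine T₁] {X₁ : Scheme.{u}}
      (f₁ : X₁ ⟶ T₁) [IsProper f₁], (∀ t : T₁, topologicalKrullDim (f₁.fiber t) ≤ 1) →
      IsUnit (p : Γ(T₁, ⊤)) ∨ (p : Γ(T₁, ⊤)) = 0 →
      GenC ((EtCoh.Rpush f₁ q).obj (EtCoh.const X₁ (ZMod p))) := by
    intro T₁ _ _ _ X₁ f₁ _ hd₁ hp₁
    haveI := QuasiCompact.compactSpace_of_compactSpace f₁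
    haveI : IsLocallyNoetherian X₁ := LocallyOfFiniteType.isLocallyNoetherian f₁
    obtain ⟨T', g, _, _, _, _, _, Y, ν, _, _, W, Z, i, _, hd, hsur, hui, hi, hfin⟩ := hmod f₁ hd₁
    haveI := hsur
    haveI := hui
    haveI := hfin
    obtain ⟨e⟩ := nonempty_pull_Rpush_const f₁ g p (Fact.out : p.Prime).pos q
    exact genC_of_dominant g (genC_of_isConstructible (FLCLib.isConstructible_of_iso e.symm
      (constr_Rpush_const_of_model hsm (pullback.snd f₁ g) ν hd W i hi p
        (natCast_isUnit_or_zero_of_hom g hp₁) q)))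
  by_cases hp0 : (p : Γ(T, ⊤)) = 0
  · exact main f hdim (Or.inr hp0)
  · let V : T.Opens := T.basicOpen (p : Γ(T, ⊤))
    haveI : IsAffine (V : Scheme.{u}) := (isAffineOpen_top T).basicOpen _
    haveI := isNoetherian_opens V
    have hV : (V : Set T).Nonempty := by
      by_contra h
      exact hp0 ((basicOpen_eq_bot_iff _).1 (Opens.ext (Set.not_nonempty_iff_eq_empty.1 h)))
    haveI : Nonempty (V : Scheme.{u}) := hV.to_subtype
    haveI : IsIntegral (V : Scheme.{u}) := isIntegral_of_isOpenImmersion V.ι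
    haveI : IsDominant V.ι := ⟨by
      rw [DenseRange, Scheme.Opens.range_ι]
      exact V.2.dense hV⟩
    haveI : QuasiCompact V.ι := inferInstance
    haveI := QuasiCompact.compactSpace_of_compactSpace f
    haveI : IsLocallyNoetherian X := LocallyOfFiniteType.isLocallyNoetherian f
    obtain ⟨e⟩ := nonempty_pull_Rpush_const f V.ι p (Fact.out : p.Prime).pos q
    refine genC_of_dominant V.ι (midClass_genC.of_iso e.symm (main (pullback.snd f V.ι) (fun v => ?_) (Or.inl ?_)))
    · exact (dim_fiber_pullback f V.ι v).le.trans (hdim _)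
    · have h1 : IsUnit (T.presheaf.map (homOfLE (show V ≤ ⊤ from le_top)).op (p : Γ(T, ⊤))) :=
        RingedSpace.isUnit_res_basicOpen _ (p : Γ(T, ⊤))
      have h2 := h1.map V.topIso.inv.hom
      simpa using h2

theorem shortExact_const {X : Scheme.{u}} {S : ShortComplex AddCommGrpCat.{u + 1}} (hS : S.ShortExact) :
    (S.map (constantSheaf X.smallEtaleTopology AddCommGrpCat.{u + 1})).ShortExact := by
  haveI : PreservesFiniteLimits (constantSheaf X.smallEtaleTopology AddCommGrpCat.{u + 1}) :=
    inferInstanceAs (PreservesFiniteLimits (Functor.const _ ⋙ presheafToSheaf _ _))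
  haveI : PreservesFiniteColimits (constantSheaf X.smallEtaleTopology AddCommGrpCat.{u + 1}) :=
    inferInstanceAs (PreservesFiniteColimits (Functor.const _ ⋙ presheafToSheaf _ _))
  exact hS.map_of_exact _

/-- Constant coefficients. -/
theorem genC_const (hsm : SmoothCurveInput.{u}) (hmod : ModelInput.{u}) {T : Scheme.{u}} [IsNoetherian T]
    [IsIntegral T] [IsAffine T] {X : Scheme.{u}} (f : X ⟶ T) [IsProper f]
    (hdim : ∀ t : T, topologicalKrullDim (f.fiber t) ≤ 1) (n : ℕ) (hn : 0 < n) (q : ℕ) :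
    GenC ((EtCoh.Rpush f q).obj (EtCoh.const X (ZMod n))) := by
  induction n using Nat.strong_induction_on with
  | _ n ih =>
  by_cases h1 : n = 1
  · subst h1
    refine midClass_genC.zero _ ((EtCoh.Rpush f q).map_isZero ?_)
    refine Functor.map_isZero _ ?_
    exact @AddCommGrpCat.isZero_of_subsingleton _ (inferInstanceAs (Subsingleton (ULift.{u + 1} (ZMod 1))))
  · obtain ⟨p, hp, m, rfl⟩ : ∃ p : ℕ, p.Prime ∧ ∃ m, n = m * p :=
      ⟨n.minFac, Nat.minFac_prime h1, n / n.minFac, (Nat.div_mul_cancel n.minFac_dvd).symm⟩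
    haveI := Fact.mk hp
    have hm : 0 < m := Nat.pos_of_mul_pos_right hn
    haveI : NeZero p := ⟨hp.pos.ne'⟩
    let a : ZMod p →+ ZMod (m * p) :=
      ZMod.lift p ⟨zmultiplesHom _ ((m : ℕ) : ZMod (m * p)), by
        simp only [zmultiplesHom_apply, natCast_zsmul, nsmul_eq_mul]
        rw [← Nat.cast_mul, mul_comm, ZMod.natCast_self]⟩
    let b : ZMod (m * p) →+ ZMod m := (ZMod.castHom (dvd_mul_right m p) (ZMod m)).toAddMonoidHom
    have ha : ∀ k : ℤ, a (k : ZMod p) = ((k * m : ℤ) : ZMod (m * p)) := fun k => by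
      rw [ZMod.lift_coe, zmultiplesHom_apply, zsmul_eq_mul]
      push_cast
      rfl
    have hb : ∀ k : ℤ, b (k : ZMod (m * p)) = (k : ZMod m) := fun k => map_intCast (ZMod.castHom (dvd_mul_right m p) (ZMod m)) k
    let A : ShortComplex AddCommGrpCat.{u + 1} :=
      ShortComplex.mk (AddCommGrpCat.ofHom (X := ULift.{u + 1} (ZMod p)) (Y := ULift.{u + 1} (ZMod (m * p)))
          ((AddEquiv.ulift.symm.toAddMonoidHom.comp a).comp AddEquiv.ulift.toAddMonoidHom))
        (AddCommGrpCat.ofHom (Y := ULift.{u + 1} (ZMod m))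
          ((AddEquiv.ulift.symm.toAddMonoidHom.comp b).comp AddEquiv.ulift.toAddMonoidHom)) (by
          ext ⟨x⟩
          obtain ⟨k, rfl⟩ := ZMod.intCast_surjective x
          show b (a (k : ZMod p)) = 0
          rw [ha, hb]
          push_cast
          rw [ZMod.natCast_self, mul_zero])
    have hA : A.ShortExact :=
      { exact := by
          rw [ShortComplex.ab_exact_iff]
          rintro ⟨y⟩ hy
          obtain ⟨k, rfl⟩ := ZMod.intCast_surjective y
          have h0 : ((k : ℤ) : ZMod m) = 0 := (hb k).symm.trans (congrArg ULift.down hy)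
          obtain ⟨l, rfl⟩ := (ZMod.intCast_zmod_eq_zero_iff_dvd k m).1 h0
          exact ⟨⟨(l : ZMod p)⟩, congrArg ULift.up ((ha l).trans (by push_cast; ring))⟩
        mono_f := by
          rw [AddCommGrpCat.mono_iff_injective, injective_iff_map_eq_zero]
          rintro ⟨x⟩ hx
          obtain ⟨k, rfl⟩ := ZMod.intCast_surjective x
          have h0 : ((k * m : ℤ) : ZMod (m * p)) = 0 := (ha k).symm.trans (congrArg ULift.down hx)
          rw [ZMod.intCast_zmod_eq_zero_iff_dvd, Nat.cast_mul, mul_comm k] at h0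
          exact congrArg ULift.up ((ZMod.intCast_zmod_eq_zero_iff_dvd k p).2
            (Int.dvd_of_mul_dvd_mul_left (by exact_mod_cast hm.ne') h0))
        epi_g := by
          rw [AddCommGrpCat.epi_iff_surjective]
          rintro ⟨x⟩
          obtain ⟨k, rfl⟩ := ZMod.intCast_surjective x
          exact ⟨⟨(k : ZMod (m * p))⟩, congrArg ULift.up (hb k)⟩ }
    obtain ⟨Δ⟩ := RDerLib.nonempty_derivedLES (EtCoh.push f)
    exact midClass_genC.mid _ (Δ.exact₂ _ (shortExact_const (X := X) hA) q)
      (genC_const_prime hsm hmod f hdim p q)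
      (ih m (lt_mul_of_one_lt_right hm hp.one_lt) hm)

/-- An open extension by zero of constant coefficients. -/
theorem genC_extZero_const (hsm : SmoothCurveInput.{u}) (hmod : ModelInput.{u}) {T : Scheme.{u}} [IsNoetherian T]
    [IsIntegral T] [IsAffine T] {X U : Scheme.{u}} (f : X ⟶ T) [IsProper f]
    (hdim : ∀ t : T, topologicalKrullDim (f.fiber t) ≤ 1) (j : U ⟶ X) [IsOpenImmersion j] [EtShriek.JCont j]
    (n : ℕ) (hn : 0 < n) (q : ℕ) :
    GenC ((EtCoh.Rpush f q).obj ((EtShriek.extZero j).obj (EtCoh.const U (ZMod n)))) := by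
  haveI : IsNoetherian X :=
    haveI := LocallyOfFiniteType.isLocallyNoetherian f
    haveI := QuasiCompact.compactSpace_of_compactSpace f
    {}
  let C := EtCoh.const X (ZMod n)
  let ε := (EtShriek.extZeroAdj j).counit.app C
  haveI : Mono ε := FLCLib.mono_counit j C
  let S := ShortComplex.mk ε (cokernel.π ε) (cokernel.condition ε)
  have hS : S.ShortExact := { exact := ShortComplex.exact_of_g_is_cokernel _ (cokernelIsCokernel ε) }
  have eX : (EtShriek.extZero j).obj (EtCoh.const U (ZMod n)) ≅ S.X₁ :=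
    (EtShriek.extZero j).mapIso ((EtCore.pullConst j (ZMod n)).symm ≪≫ (EtPtsLib.pullIsoRestr j).app C)
  refine midClass_genC.of_iso ((EtCoh.Rpush f q).mapIso eX).symm ?_
  let Zs : Closeds X := ⟨(Set.range j)ᶜ, j.isOpenEmbedding.isOpen_range.isClosed_compl⟩
  let i := (Scheme.IdealSheafData.vanishingIdeal Zs).subschemeι
  have hi : Set.range i = (Set.range j)ᶜ := by
    rw [Scheme.IdealSheafData.range_subschemeι, Scheme.IdealSheafData.coe_support_vanishingIdeal]
    rfl
  have hs : EtPBC.supp (cokernel ε) ⊆ Set.range i := hi ▸ BlowSquareLib.supp_cokernel_counit j C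
  haveI := CdFieldLib.isIso_unit_of_supp_closed i (cokernel ε) hs
  haveI := BlowSquareLib.isIso_pull_cokernel j C i hi.le
  obtain ⟨Δ⟩ := RDerLib.nonempty_derivedLES (EtCoh.push f)
  rcases q with _ | q
  · haveI : Mono ((EtCoh.Rpush f 0).map S.f) := by
      haveI : Mono S.f := hS.mono_f
      haveI := preservesFiniteLimits_push f
      exact mono_rightDerived_zero (EtCoh.push f) S.f
    exact midClass_genC.of_mono ((EtCoh.Rpush f 0).map S.f) (genC_const hsm hmod f hdim n hn 0)
  · refine midClass_genC.mid _ (Δ.exact₁ S hS q (q + 1) rfl) ?_ (genC_const hsm hmod f hdim n hn (q + 1))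
    refine midClass_genC.of_iso (((EtCoh.Rpush f q).mapIso (asIso ((EtCoh.pullPushAdj i).unit.app (cokernel ε))) ≪≫
      (SmoothBCLib.nonempty_Rpush_push_iso i f _ (fun m => BlowSquareLib.isZero_Rpush_finite i _ m) q).some ≪≫
      (EtCoh.Rpush (i ≫ f) q).mapIso ((asIso ((EtCoh.pull i).map (cokernel.π ε))).symm ≪≫
        EtCore.pullConst i (ZMod n))).symm) ?_
    refine genC_const hsm hmod (i ≫ f) (fun t => ?_) n hn q
    exact (dim_fiber_comp_le i f t).trans (hdim t)

/-- All constructible sheaves. -/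
theorem genC_Rpush (hsm : SmoothCurveInput.{u}) (hmod : ModelInput.{u}) {T : Scheme.{u}} [IsNoetherian T]
    [IsIntegral T] [IsAffine T] {X : Scheme.{u}} (f : X ⟶ T) [IsProper f]
    (hdim : ∀ t : T, topologicalKrullDim (f.fiber t) ≤ 1) :
    ∀ (d q : ℕ), 3 ≤ d + q → ∀ F : EtCoh.Ab X, EtPBC.IsConstructible F → GenC ((EtCoh.Rpush f q).obj F) := by
  haveI : IsNoetherian X :=
    haveI := LocallyOfFiniteType.isLocallyNoetherian f
    haveI := QuasiCompact.compactSpace_of_compactSpace f
    {}
  haveI : X.IsSeparated := by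
    haveI h : IsSeparated (f ≫ terminal.from T) := inferInstance
    exact ⟨by rwa [terminal.comp_from] at h⟩
  intro d
  induction d with
  | zero =>
    intro q hq F hF
    exact midClass_genC.zero _
      (CdFieldLib.isZero_Rpush_of_fibre_dim f 1 hdim F (isTorsion_of_isConstructible hF) q (by omega))
  | succ d ih =>
    intro q hq F hF
    obtain ⟨n, hn, hFn⟩ := FLCLib.exists_killedBy hF
    obtain ⟨a, b, V, U, hV, hU, φ, ⟨e⟩⟩ := Groth.Agent.S0138.result X n hn F hF hFn
    let B := ⨁ fun i => EtPBC.extZeroConst (U i) (ZMod n)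
    have hB : EtPBC.IsConstructible B := isConstructible_biproduct _ fun i =>
      haveI := hU i
      FLCLib.isConstructible_extZeroConst_zmod (U i) n hn
    let π : B ⟶ F := cokernel.π φ ≫ e.inv
    haveI : Epi π := epi_comp _ _
    let S := ShortComplex.mk (kernel.ι π) π (kernel.condition π)
    have hS : S.ShortExact := { exact := ShortComplex.exact_of_f_is_kernel _ (kernelIsKernel π) }
    obtain ⟨Δ⟩ := RDerLib.nonempty_derivedLES (EtCoh.push f)
    refine midClass_genC.mid _ (Δ.exact₃ S hS q (q + 1) rfl) ?_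
      (ih (q + 1) (by omega) (kernel π) ((midClass (X := X)).of_mono (kernel.ι π) hB))
    refine (midClass_genC (T := T)).of_iso ((EtCoh.Rpush f q).mapBiproduct _).symm ?_
    refine biproduct_mem (midClass_genC (T := T)) _ fun i => ?_
    haveI := hU i
    obtain ⟨X', j, ρ, hj, _, hρ, ⟨e'⟩⟩ := exists_extZeroConst_iso (U i) (ZMod n)
    haveI := hj
    haveI := hρ
    refine midClass_genC.of_iso ((EtCoh.Rpush f q).mapIso e' ≪≫
      (SmoothBCLib.nonempty_Rpush_push_iso ρ f _ (fun m => BlowSquareLib.isZero_Rpush_finite ρ _ m) q).some).symm ?_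
    refine genC_extZero_const hsm hmod (ρ ≫ f) (fun t => ?_) j n hn q
    exact (dim_fiber_comp_le ρ f t).trans (hdim t)

/-- Proper morphisms with fibres of dimension at most one. -/
theorem pushConstr_curve (hsm : SmoothCurveInput.{u}) (hmod : ModelInput.{u}) {X S : Scheme.{u}} [IsNoetherian S]
    (f : X ⟶ S) [IsProper f] (hdim : ∀ s : S, topologicalKrullDim (f.fiber s) ≤ 1) (q : ℕ) : PushConstr f q := by
  intro F hF
  haveI : IsNoetherian X :=
    haveI := LocallyOfFiniteType.isLocallyNoetherian f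
    haveI := QuasiCompact.compactSpace_of_compactSpace f
    {}
  refine isConstructible_of_genC _ fun T i _ _ _ _ => ?_
  obtain ⟨e⟩ := nonempty_pull_Rpush_iso f i (pullback.snd f i) (pullback.fst f i) (IsPullback.of_hasPullback f i) F
    (isTorsion_of_isConstructible hF) q
  refine midClass_genC.of_iso e.symm (genC_Rpush hsm hmod (pullback.snd f i) (fun t => ?_) 3 q (by omega) _
    (FLCLib.isConstructible_pull _ hF))
  exact (dim_fiber_pullback f i t).le.trans (hdim _)

end Groth.Agent.FinPushLib
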