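import Groth.Agent.FinPushLib.Devissage
import Groth.Agent.FinPushLib.Core
import Groth.Agent.PBCLib.P1

/-!
# Constructibility of proper direct images over a noetherian base, from the two inputs on curves
-/

set_option autoImplicit false
set_option backward.isDefEq.respectTransparency false
set_option backward.isDefEq.respectTransparency.types false
set_option linter.style.haveILetI false
set_option maxHeartbeats 1000000
set_option synthInstance.maxHeartbeats 400000

universe u

open CategoryTheory CategoryTheory.Limits AlgebraicGeometry Opposite

attribute [local instance] Groth.Agent.S0101.result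

noncomputable section

namespace Groth.Agent.FinPushLib

/-- The fibres of the projective line have dimension at most one. -/
theorem dim_fiber_P1 (S : Scheme.{u}) (s : S) :
    topologicalKrullDim ((CohB1.ProjSpaceOver.toBase 1 S).fiber s) ≤ 1 := by
  let e := pullbackLeftPullbackSndIso (CohB1.ProjSpace.toSpec 1 (ULift.{u} ℤ)) (specULiftZIsTerminal.from S)
      (S.fromSpecResidueField s) ≪≫
    pullback.congrHom rfl (specULiftZIsTerminal.hom_ext
      (S.fromSpecResidueField s ≫ specULiftZIsTerminal.from S) (specULiftZIsTerminal.from _))
  obtain ⟨e', -⟩ := ProjOverLib.exists_iso_polyProj 1 (S.residueField s)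
  refine (IsHomeomorph.topologicalKrullDim_eq _ (e ≪≫ e').hom.homeomorph.isHomeomorph).le.trans ?_
  exact (Groth.Agent.S10829.result (S.residueField s) 1).le

theorem p1Good (hsm : SmoothCurveInput.{u}) (hmod : ModelInput.{u}) : P1Good.{u} := by
  intro S _ q
  haveI : IsProper (CohB1.ProjSpaceOver.toBase 1 S) := BCLib.isProper_toBase 1 S
  show PushConstr (CohB1.ProjSpaceOver.toBase 1 S ≫ 𝟙 S) q
  rw [Category.comp_id]
  exact pushConstr_curve hsm hmod (CohB1.ProjSpaceOver.toBase 1 S) (dim_fiber_P1 S) q

/-- Proper direct images of constructible sheaves over a noetherian base are constructible. -/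
theorem pushConstr_of_inputs (hsm : SmoothCurveInput.{u}) (hmod : ModelInput.{u}) {X S : Scheme.{u}} [IsNoetherian S]
    (f : X ⟶ S) [IsProper f] (q : ℕ) : PushConstr f q :=
  pushConstr_proper (p1Good hsm hmod) f q

end Groth.Agent.FinPushLib
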