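import Groth.Agent.FinPushLib.Middle
import Groth.Agent.FLCLib.Present
import Groth.Agent.FLCLib.Descent
import Groth.Agent.FLCLib.Strata
import Groth.Agent.S0137
import Groth.Agent.S0132
import Groth.Agent.S0140
import Groth.Agent.S0141
import Groth.Agent.S0129
import Groth.Agent.EtPtsLib.UnitMono
import Groth.Agent.PBCCons.Torsion
import Groth.Agent.PBCLib.Final
import Groth.Agent.BlowSquareLib.Square

/-!
# Morphisms with constructible higher direct images

On a noetherian scheme the constructible sheaves are closed under middle terms of exact sequences. The morphisms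
all whose higher direct images of constructible sheaves are constructible contain the finite ones, compose, and
descend along finite surjective families of such morphisms.
-/

set_option autoImplicit false
set_option backward.isDefEq.respectTransparency false
set_option backward.isDefEq.respectTransparency.types false
set_option linter.style.haveILetI false
set_option linter.unusedSectionVars false
set_option maxHeartbeats 1000000
set_option synthInstance.maxHeartbeats 400000

universe u

open CategoryTheory CategoryTheory.Limits AlgebraicGeometry Opposite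

attribute [local instance] Groth.Agent.S0101.result

noncomputable section

namespace Groth.Agent.FinPushLib

variable {X Y S : Scheme.{u}}

theorem killedBy_of_exact {A B C : EtCoh.Ab X} (f : A ⟶ B) (g : B ⟶ C) (w : f ≫ g = 0)
    (h : (ShortComplex.mk f g w).Exact) {a c : ℕ} (hA : EtCoh.KilledBy a A) (hC : EtCoh.KilledBy c C) :
    EtCoh.KilledBy (a * c) B := by
  rw [FLCLib.killedBy_iff] at hA hC ⊢
  have h1 : (c • 𝟙 B) ≫ g = 0 := by
    rw [Preadditive.nsmul_comp, Category.id_comp, ← Category.comp_id g, ← Preadditive.comp_nsmul, hC, comp_zero]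
  obtain ⟨A', π, hπ, x, hx⟩ := h.exact_up_to_refinements (c • 𝟙 B) h1
  have h2 : (a • 𝟙 A) ≫ f = f ≫ (a • 𝟙 B) := by
    rw [Preadditive.nsmul_comp, Category.id_comp, Preadditive.comp_nsmul, Category.comp_id]
  have h3 : π ≫ (c • 𝟙 B) ≫ (a • 𝟙 B) = 0 := by
    rw [← Category.assoc, hx, Category.assoc]
    show x ≫ f ≫ _ = 0
    rw [← h2, hA, zero_comp, comp_zero]
  rw [← cancel_epi π, comp_zero]
  refine Eq.trans ?_ h3
  rw [Preadditive.nsmul_comp, Category.id_comp, ← mul_smul, mul_comm]

/-- Constructible sheaves on a noetherian scheme are closed under middle terms. -/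
theorem midClass [IsNoetherian X] : MidClass (EtPBC.IsConstructible (X := X)) where
  zero _ h := FLCLib.isConstructible_of_isZero h
  mid S hS h₁ h₃ := by
    obtain ⟨a, ha, hA⟩ := FLCLib.exists_killedBy h₁
    obtain ⟨c, hc, hC⟩ := FLCLib.exists_killedBy h₃
    have hB := killedBy_of_exact S.f S.g S.zero hS hA hC
    let T : ShortComplex (EtCoh.Ab X) :=
      ShortComplex.mk (kernel.ι S.g) (cokernel.π (kernel.ι S.g)) (cokernel.condition (kernel.ι S.g))
    have hT : T.ShortExact := { exact := ShortComplex.exact_cokernel (kernel.ι S.g) }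
    refine S0132.result T hT (a * c) (Nat.mul_pos ha hc) hB ?_ ?_
    · haveI : Epi (kernel.lift S.g S.f S.zero) := hS.epi_kernelLift
      exact S0141.result X (kernel.lift S.g S.f S.zero) a ha hA h₁
    · exact S0140.result X (Abelian.factorThruCoimage S.g) c hc hC h₃

/-- All higher direct images in degree `q` of constructible sheaves are constructible. -/
def PushConstr (f : X ⟶ S) (q : ℕ) : Prop :=
  ∀ F : EtCoh.Ab X, EtPBC.IsConstructible F → EtPBC.IsConstructible ((EtCoh.Rpush f q).obj F)

theorem pushConstr_finite [IsNoetherian X] [IsNoetherian S] (f : X ⟶ S) [IsFinite f] (q : ℕ) : PushConstr f q := by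
  intro F hF
  rcases q with _ | q
  · haveI : LocallyOfFinitePresentation f := inferInstance
    haveI : (EtCoh.push f).IsRightAdjoint := (EtCoh.pullPushAdj f).isRightAdjoint
    haveI : PreservesFiniteLimits (EtCoh.push f) := inferInstance
    exact FLCLib.isConstructible_of_iso (asIso ((EtCoh.push f).toRightDerivedZero.app F)) (S0137.result f F hF)
  · exact FLCLib.isConstructible_of_isZero (BlowSquareLib.isZero_Rpush_finite f F q)

section Resolution

variable {T : Scheme.{u}} (a : T ⟶ X) (b : X ⟶ S) (F : EtCoh.Ab T) (R : InjectiveResolution F)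

/-- The direct image of an injective resolution. -/
abbrev pushRes : CochainComplex (EtCoh.Ab X) ℕ :=
  ((EtCoh.push a).mapHomologicalComplex (ComplexShape.up ℕ)).obj R.cocomplex

theorem isZero_rightDerived_pushRes (j q : ℕ) :
    IsZero (((EtCoh.push b).rightDerived (q + 1)).obj ((pushRes a F R).X j)) := by
  haveI : Injective ((pushRes a F R).X j) := Injective.injective_of_adjoint (EtCoh.pullPushAdj a) (R.cocomplex.X j)
  exact (EtCoh.push b).isZero_rightDerived_obj_injective_succ q _

theorem nonempty_homology_pushRes (j : ℕ) :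
    Nonempty ((pushRes a F R).homology j ≅ (EtCoh.Rpush a j).obj F) :=
  ⟨(R.isoRightDerivedObj (EtCoh.push a) j).symm⟩

theorem nonempty_homology_push_pushRes (q : ℕ) :
    Nonempty ((((EtCoh.push b).mapHomologicalComplex (ComplexShape.up ℕ)).obj (pushRes a F R)).homology q ≅
      (EtCoh.Rpush (a ≫ b) q).obj F) :=
  ⟨(HomologicalComplex.homologyFunctor _ _ q).mapIso
      ((NatIso.mapHomologicalComplex (EtCoh.pushComp b a) (ComplexShape.up ℕ)).app R.cocomplex) ≪≫
    (R.isoRightDerivedObj (EtCoh.push (a ≫ b)) q).symm⟩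

theorem preservesFiniteLimits_push : PreservesFiniteLimits (EtCoh.push b) := by
  haveI : (EtCoh.push b).IsRightAdjoint := (EtCoh.pullPushAdj b).isRightAdjoint
  infer_instance

end Resolution

/-- Composition. -/
theorem pushConstr_comp {T : Scheme.{u}} [IsNoetherian S] (a : T ⟶ X) (b : X ⟶ S) (q : ℕ)
    (ha : ∀ j ≤ q, PushConstr a j) (hb : ∀ i ≤ q, PushConstr b i) : PushConstr (a ≫ b) q := by
  intro F hF
  let R := InjectiveResolution.of F
  haveI := preservesFiniteLimits_push b
  refine (midClass (X := S)).of_iso (nonempty_homology_push_pushRes a b F R q).some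
    (homology_map_mem (EtCoh.push b) (pushRes a F R) (isZero_rightDerived_pushRes a b F R) midClass q ?_)
  intro i j h
  exact (midClass (X := S)).of_iso ((EtCoh.Rpush b i).mapIso (nonempty_homology_pushRes a F R j).some).symm
    (hb i (by omega) _ (ha j (by omega) F hF))

/-- The direct image along `a` of a constructible sheaf, seen from below. -/
theorem constr_Rpush_push {T : Scheme.{u}} [IsNoetherian S] (a : T ⟶ X) (b : X ⟶ S) (q : ℕ) (F : EtCoh.Ab T)
    (hab : EtPBC.IsConstructible ((EtCoh.Rpush (a ≫ b) q).obj F))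
    (h : ∀ i j : ℕ, i + j + 1 = q → 1 ≤ j →
      EtPBC.IsConstructible ((EtCoh.Rpush b i).obj ((EtCoh.Rpush a j).obj F))) :
    EtPBC.IsConstructible ((EtCoh.Rpush b q).obj ((EtCoh.push a).obj F)) := by
  let R := InjectiveResolution.of F
  haveI := preservesFiniteLimits_push b
  haveI := preservesFiniteLimits_push a
  refine (midClass (X := S)).of_iso ((EtCoh.Rpush b q).mapIso ((nonempty_homology_pushRes a F R 0).some ≪≫
    (asIso ((EtCoh.push a).toRightDerivedZero.app F)).symm))
    (rightDerived_homology_zero_mem (EtCoh.push b) (pushRes a F R) (isZero_rightDerived_pushRes a b F R) midClass q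
      ((midClass (X := S)).of_iso (nonempty_homology_push_pushRes a b F R q).some.symm hab) ?_)
  intro i j hij hj
  exact (midClass (X := S)).of_iso ((EtCoh.Rpush b i).mapIso (nonempty_homology_pushRes a F R j).some).symm
    (h i j hij hj)

theorem isConstructible_biproduct [IsNoetherian X] : ∀ {r : ℕ} (E : Fin r → EtCoh.Ab X),
    (∀ i, EtPBC.IsConstructible (E i)) → EtPBC.IsConstructible (⨁ E)
  | 0, E, _ => FLCLib.isConstructible_of_isZero ((IsZero.iff_id_eq_zero _).2 (biproduct.hom_ext _ _ fun i => i.elim0))
  | r + 1, E, h => by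
    refine (midClass (X := X)).of_iso (FLCLib.biproductSuccIso E).symm ?_
    exact (midClass (X := X)).mid (ShortComplex.mk biprod.inl biprod.snd (by simp))
      (ShortComplex.Splitting.ofHasBinaryBiproduct (E 0) (⨁ fun i : Fin r => E i.succ)).shortExact.exact (h 0)
      (isConstructible_biproduct _ fun i => h i.succ)

/-- The unit of a jointly surjective finite family. -/
theorem mono_lift_units {r : ℕ} {Z : Fin r → Scheme.{u}} (π : ∀ i, Z i ⟶ X)
    (hπ : ∀ x : X, ∃ i, x ∈ Set.range (π i)) (F : EtCoh.Ab X) :
    Mono (biproduct.lift fun i => (EtCoh.pullPushAdj (π i)).unit.app F :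
      F ⟶ ⨁ fun i => (EtCoh.push (π i)).obj ((EtCoh.pull (π i)).obj F)) := by
  let e := (biproduct.lift fun i => (EtCoh.pullPushAdj (π i)).unit.app F :
      F ⟶ ⨁ fun i => (EtCoh.push (π i)).obj ((EtCoh.pull (π i)).obj F))
  choose i hi using hπ
  choose z hz using hi
  let K := fun x : X => SeparableClosure ((Z (i x)).residueField (z x))
  haveI : Sheaf.IsLocallyInjective e :=
    SitePts.isLocallyInjective (EtPtsLib.detects_of_points K (fun x => EtPtsLib.geomPt (z x) ≫ π (i x)) fun x => by
      rw [Scheme.Hom.comp_apply, EtPtsLib.geomPt_default, hz]) e.hom fun x a b hab => by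
      refine EtPtsLib.stalk_unit_injective (π (i x)) (EtPtsLib.geomPt (z x)) F ?_
      have h := congrArg ((EtCoh.stalk (EtPtsLib.geomPt (z x) ≫ π (i x))).map
        (biproduct.π (fun j => (EtCoh.push (π j)).obj ((EtCoh.pull (π j)).obj F)) (i x))) hab
      change ((EtCoh.stalk _).map e ≫ (EtCoh.stalk _).map _) a = ((EtCoh.stalk _).map e ≫ (EtCoh.stalk _).map _) b at h
      rw [← Functor.map_comp, biproduct.lift_π] at h
      exact h
  exact Sheaf.mono_of_isLocallyInjective _

/-- Constructibility descends along finite jointly surjective families. -/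
theorem pushConstr_of_cover [IsNoetherian X] [IsNoetherian S] (f : X ⟶ S) {r : ℕ} {Z : Fin r → Scheme.{u}}
    (π : ∀ i, Z i ⟶ X) (hπ : ∀ x : X, ∃ i, x ∈ Set.range (π i))
    (h₁ : ∀ i q, PushConstr (π i) q) (h₂ : ∀ i q, PushConstr (π i ≫ f) q) (q : ℕ) : PushConstr f q := by
  induction q using Nat.strong_induction_on with
  | _ q ih =>
  intro F hF
  let M : Fin r → EtCoh.Ab X := fun i => (EtCoh.push (π i)).obj ((EtCoh.pull (π i)).obj F)
  haveI := mono_lift_units π hπ F
  let e : F ⟶ ⨁ M := biproduct.lift fun i => (EtCoh.pullPushAdj (π i)).unit.app F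
  have hM : ∀ i, EtPBC.IsConstructible (M i) := fun i => by
    haveI := preservesFiniteLimits_push (π i)
    exact FLCLib.isConstructible_of_iso (asIso ((EtCoh.push (π i)).toRightDerivedZero.app _)).symm
      (h₁ i 0 _ (FLCLib.isConstructible_pull (π i) hF))
  let T := ShortComplex.mk e (cokernel.π e) (cokernel.condition e)
  have hT : T.ShortExact := { exact := ShortComplex.exact_cokernel e }
  have hG : EtPBC.IsConstructible (cokernel e) :=
    (midClass (X := X)).of_epi (cokernel.π e) (isConstructible_biproduct M hM)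
  obtain ⟨Δ⟩ := RDerLib.nonempty_derivedLES (EtCoh.push f)
  have hRM : EtPBC.IsConstructible ((EtCoh.Rpush f q).obj (⨁ M)) := by
    refine (midClass (X := S)).of_iso ((EtCoh.Rpush f q).mapBiproduct M).symm
      (isConstructible_biproduct _ fun i => ?_)
    exact constr_Rpush_push (π i) f q _ (h₂ i q _ (FLCLib.isConstructible_pull (π i) hF))
      fun a j hij _ => ih a (by omega) _ (h₁ i j _ (FLCLib.isConstructible_pull (π i) hF))
  rcases q with _ | q
  · haveI : Mono ((EtCoh.Rpush f 0).map e) := by
      haveI := preservesFiniteLimits_push f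
      exact mono_rightDerived_zero (EtCoh.push f) e
    exact (midClass (X := S)).of_mono ((EtCoh.Rpush f 0).map e) hRM
  · exact (midClass (X := S)).mid _ (Δ.exact₁ T hT q (q + 1) rfl) (ih q (by omega) _ hG) hRM

/-- Base change along a morphism to the base. -/
theorem nonempty_pull_Rpush_iso {X' S' : Scheme.{u}} (f : X ⟶ S) [IsProper f] (g : S' ⟶ S) (f' : X' ⟶ S')
    (g' : X' ⟶ X) (sq : IsPullback g' f' f g) (F : EtCoh.Ab X) (hF : EtCoh.IsTorsion F) (q : ℕ) :
    Nonempty ((EtCoh.pull g).obj ((EtCoh.Rpush f q).obj F) ≅ (EtCoh.Rpush f' q).obj ((EtCoh.pull g').obj F)) := by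
  haveI := PBCLib.bcAll_of_proper f g f' g' sq F hF q
  exact ⟨asIso (EtBC.bcQ f g f' g' sq.w q F)⟩

theorem isTorsion_of_isConstructible [CompactSpace X] [QuasiSeparatedSpace X] {F : EtCoh.Ab X}
    (hF : EtPBC.IsConstructible F) : EtCoh.IsTorsion F := by
  obtain ⟨n, hn, h⟩ := FLCLib.exists_killedBy hF
  exact PBCLib.isTorsion_of_killedBy' hn h

end Groth.Agent.FinPushLib
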