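import Groth.Agent.PBCLib.Chow
import Groth.Agent.ProperFin.Chow

/-!
# Proper schemes over an affine base, finite over fibre powers of the projective line after a modification
-/

set_option autoImplicit false
set_option backward.isDefEq.respectTransparency false
set_option backward.isDefEq.respectTransparency.types false
set_option linter.style.haveILetI false
set_option maxHeartbeats 2000000

universe u

open CategoryTheory CategoryTheory.Limits AlgebraicGeometry Opposite TopologicalSpace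

noncomputable section

namespace Groth.Agent.FinPushLib

open PBCLib

/-- A modification finite over a fibre power of the projective line. -/
theorem exists_chow {A : Type u} [CommRing A] [IsNoetherianRing A] {X : Scheme.{u}}
    (f : X ⟶ Spec (CommRingCat.of A)) [IsProper f] [IsIntegral X] :
    ∃ (N : ℕ) (W : Scheme.{u}) (φ : W ⟶ PBCLib.P1Pow N X), IsClosedImmersion φ ∧
      Surjective (φ ≫ PBCLib.P1Pow.toBase N X) ∧ IsFinite (φ ≫ PBCLib.P1Pow.map N f) := by
  classical
  haveI : CompactSpace X := QuasiCompact.compactSpace_of_compactSpace f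
  haveI : IsLocallyNoetherian X := LocallyOfFiniteType.isLocallyNoetherian f
  let π : X ⟶ X := 𝟙 X
  let K := X.functionField
  let gη : Spec (CommRingCat.of K) ⟶ X := X.fromSpecStalk (genericPoint X)
  let x₀ := π (genericPoint X)
  have hgη : gη (IsLocalRing.closedPoint K) = genericPoint X := Scheme.fromSpecStalk_closedPoint
  have hgK : (gη ≫ π) (IsLocalRing.closedPoint K) = x₀ := by rw [Scheme.Hom.comp_apply, hgη]
  -- finitely many affine charts
  choose O hO hxO _ using fun x : X => exists_isAffineOpen_mem_and_subset (X := X) (x := x) (U := ⊤) trivial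
  obtain ⟨T, hT⟩ := isCompact_univ.elim_finite_subcover (fun x : X => (O x : Set X)) (fun x => (O x).2)
    (fun x _ => Set.mem_iUnion.2 ⟨x, hxO x⟩)
  let Q := {x // x ∈ T ∧ x₀ ∈ O x}
  haveI : Finite Q := Finite.of_injective (fun x : Q => (⟨x.1, x.2.1⟩ : T)) fun a b h => Subtype.ext (congrArg (fun y : T => y.1) h)
  haveI := Fintype.ofFinite Q
  have hK : ∀ x : Q, ⊤ ≤ (gη ≫ π) ⁻¹ᵁ O x.1 := fun x z _ => by
    show (gη ≫ π) z ∈ O x.1
    rw [Subsingleton.elim (α := PrimeSpectrum K) z (IsLocalRing.closedPoint K), hgK]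
    exact x.2.2
  have hft : ∀ x : Q, ∃ s : Finset Γ(X, O x.1),
      letI := (f.appLE ⊤ (O x.1) (fun z _ => trivial)).hom.toAlgebra
      Algebra.adjoin Γ(Spec (CommRingCat.of A), ⊤) (Set.range (Subtype.val : s → Γ(X, O x.1))) = ⊤ := fun x => by
    obtain ⟨s, hs⟩ := (f.finiteType_appLE (isAffineOpen_top _) (hO x.1) (fun z _ => trivial)).out
    refine ⟨s, ?_⟩
    rw [Subtype.range_coe_subtype]
    exact hs
  choose s hs using hft
  let ι' := Σ x : Q, s x
  let N := Fintype.card ι'
  let e : ι' ≃ Fin N := Fintype.equivFin ι'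
  let r : ∀ i : ι', Γ(X, O i.1.1) := fun i => i.2.1
  let val : ι' → K := fun i => valueAt (gη ≫ π) (O i.1.1) (hK i.1) (r i)
  obtain ⟨p, hp, hpa⟩ := P1Pow.exists_mk N gη (fun j => coordSpec K (val (e.symm j)))
  haveI := P1Pow.isProper_toBase N X
  haveI := P1Pow.isProper_toBase N (Spec (CommRingCat.of A))
  haveI : IsSeparated (P1Pow.toBase N X ≫ π ≫ f) := inferInstance
  haveI : (P1Pow N X).IsSeparated := by
    haveI h : IsSeparated ((P1Pow.toBase N X ≫ π ≫ f) ≫ terminal.from (Spec (CommRingCat.of A))) := inferInstance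
    exact ⟨by rwa [terminal.comp_from] at h⟩
  haveI : QuasiCompact p := inferInstance
  haveI : QuasiSeparated p := inferInstance
  let W := p.image
  haveI : IsIntegral W := ProperFin.isIntegral_image p
  let φ : W ⟶ P1Pow N X := p.imageι
  let t : Spec (CommRingCat.of K) ⟶ W := p.toImage
  have htφ : t ≫ φ = p := p.toImage_imageι
  have ht : t (IsLocalRing.closedPoint K) = genericPoint W := by
    have h := (genericPoint_spec (Spec (CommRingCat.of K))).image t.continuous
    rw [Set.image_univ, t.denseRange.closure_range,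
      Subsingleton.elim (α := PrimeSpectrum K) (genericPoint (Spec (CommRingCat.of K))) (IsLocalRing.closedPoint K)] at h
    exact h.eq (genericPoint_spec W)
  haveI : IsDominant (φ ≫ P1Pow.toBase N X) := by
    haveI : IsDominant gη := isDominant_of_generic gη hgη
    refine ⟨Dense.mono ?_ gη.denseRange⟩
    rw [← hp, ← htφ, Category.assoc]
    rintro _ ⟨z, rfl⟩
    exact ⟨t z, (Scheme.Hom.comp_apply _ _ _).symm⟩
  let χ : W ⟶ X := φ ≫ P1Pow.toBase N X ≫ π
  have htχ : t ≫ χ = gη ≫ π := by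
    show t ≫ φ ≫ P1Pow.toBase N X ≫ π = _
    rw [reassoc_of% htφ, reassoc_of% hp]
  let S := Spec (CommRingCat.of A)
  let ψ : W ⟶ P1Pow N S := φ ≫ P1Pow.map N (π ≫ f)
  let c : ι' → (W ⟶ P1Z.{u}) := fun i => φ ≫ P1Pow.proj N X (e i)
  have hψc : ∀ i, ψ ≫ P1Pow.proj N S (e i) = c i := fun i => by
    simp only [ψ, c, Category.assoc, P1Pow.map_proj]
  have hK' : ∀ x : Q, ⊤ ≤ (t ≫ χ) ⁻¹ᵁ O x.1 := htχ.symm ▸ hK
  have hc : ∀ i : ι', t ≫ c i = coordSpec K (valueAt (t ≫ χ) (O i.1.1) (hK' i.1) (r i)) := fun i => by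
    show t ≫ φ ≫ _ = _
    rw [reassoc_of% htφ, hpa (e i), e.symm_apply_apply]
    simp only [val, htχ]
  let Oc : Q → (P1Pow N S).Opens := fun x =>
    ⟨⋂ j : s x, ((P1Pow.proj N S (e ⟨x, j⟩)) ⁻¹ᵁ chartι.opensRange : Set (P1Pow N S)),
      isOpen_iInter_of_finite fun j => (P1Pow.proj N S (e ⟨x, j⟩) ⁻¹ᵁ chartι.opensRange).2⟩
  have hpre : ∀ x : Q, ψ ⁻¹ᵁ Oc x = χ ⁻¹ᵁ O x.1 := fun x => by
    ext w
    constructor
    · intro hw
      have hw' : ∀ j : s x, c ⟨x, j⟩ w ∈ chartι.{u}.opensRange := fun j => by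
        rw [← hψc, Scheme.Hom.comp_apply]
        exact Set.mem_iInter.1 hw j
      exact mem_of_coords t χ f (hO x.1) (hK' x) (fun j : s x => c ⟨x, j⟩) (fun j => r ⟨x, j⟩) (hs x) ht
        (fun j => hc ⟨x, j⟩) w hw' (ψ ⁻¹ᵁ Oc x) hw (fun j z hz => by
          show c ⟨x, j⟩ z ∈ chartι.{u}.opensRange
          rw [← hψc, Scheme.Hom.comp_apply]
          exact Set.mem_iInter.1 hz j)
    · intro hw
      refine Set.mem_iInter.2 fun j => ?_
      show P1Pow.proj N S (e ⟨x, j⟩) (ψ w) ∈ chartι.{u}.opensRange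
      rw [← Scheme.Hom.comp_apply, hψc]
      exact coord_mem_chart t χ (hK' x) (c ⟨x, j⟩) (r ⟨x, j⟩) ht (hc ⟨x, j⟩) hw
  haveI : UniversallyClosed ψ := by
    haveI : UniversallyClosed (ψ ≫ P1Pow.toBase N S) := by
      rw [show ψ ≫ P1Pow.toBase N S = φ ≫ P1Pow.toBase N X ≫ π ≫ f by
        simp only [ψ, Category.assoc]; rw [(P1Pow.isPullback_map N (π ≫ f)).w]]
      infer_instance
    exact UniversallyClosed.of_comp_of_isSeparated ψ (P1Pow.toBase N S)
  -- the product with a chart is affine over the fibre power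
  let R := pullback (P1Pow.toBase N S) f
  let m : P1Pow N X ⟶ R := pullback.lift (P1Pow.map N (π ≫ f)) (P1Pow.toBase N X ≫ π)
    ((P1Pow.isPullback_map N (π ≫ f)).w.trans (Category.assoc _ _ _).symm)
  haveI : IsIntegralHom m := by
    refine MorphismProperty.of_isPullback (P := @IsIntegralHom) (IsPullback.of_right (h₁₂ := pullback.fst _ f)
      ?_ (pullback.lift_snd _ _ _) (IsPullback.of_hasPullback (P1Pow.toBase N S) f)).flip (inferInstanceAs (IsIntegralHom (𝟙 X)))
    rw [pullback.lift_fst]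
    exact P1Pow.isPullback_map N (π ≫ f)
  haveI : IsAffineHom ψ := by
    let Oc' : Option Q → (P1Pow N S).Opens := fun o =>
      o.elim ⟨(Set.range ψ)ᶜ, (ψ.isClosedMap.isClosed_range).isOpen_compl⟩ Oc
    refine (IsZariskiLocalAtTarget.iff_of_iSup_eq_top (P := @IsAffineHom) Oc' ?_).2 fun o => ?_
    · refine eq_top_iff.2 fun y _ => Opens.mem_iSup.2 ?_
      by_cases hy : y ∈ Set.range ψ
      · obtain ⟨w, rfl⟩ := hy
        obtain ⟨x, hxT, hxw⟩ := Set.mem_iUnion₂.1 (hT (Set.mem_univ (χ w)))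
        have hx₀ : x₀ ∈ O x := by
          refine Specializes.mem_open ?_ (O x).2 hxw
          show π (genericPoint X) ⤳ (φ ≫ P1Pow.toBase N X ≫ π) w
          rw [Scheme.Hom.comp_apply, Scheme.Hom.comp_apply]
          exact (genericPoint_specializes _).map π.continuous
        refine ⟨some ⟨x, hxT, hx₀⟩, ?_⟩
        show w ∈ ψ ⁻¹ᵁ Oc ⟨x, hxT, hx₀⟩
        rw [hpre]
        exact hxw
      · exact ⟨none, hy⟩
    · cases o with
      | none =>
        haveI : IsEmpty ↥(ψ ⁻¹ᵁ Oc' none).toScheme := ⟨fun z => z.2 ⟨z.1, rfl⟩⟩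
        infer_instance
      | some x =>
        haveI : IsAffine (O x.1).toScheme := hO x.1
        let rS := pullback.snd (P1Pow.toBase N S) f
        haveI : IsAffineHom ((rS ⁻¹ᵁ O x.1).ι ≫ pullback.fst (P1Pow.toBase N S) f) := by
          have h := (isPullback_morphismRestrict rS (O x.1)).flip.paste_horiz
            (IsPullback.of_hasPullback (P1Pow.toBase N S) f)
          haveI : IsAffineHom ((O x.1).ι ≫ f) := isAffineHom_of_isAffine _
          exact MorphismProperty.of_isPullback (P := @IsAffineHom) h.flip ‹_›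
        let ω : W ⟶ R := φ ≫ m
        have hω : ω ≫ pullback.fst (P1Pow.toBase N S) f = ψ := by
          simp only [ω, ψ, m, Category.assoc, pullback.lift_fst]
        have hωpre : ω ⁻¹ᵁ (rS ⁻¹ᵁ O x.1) = ψ ⁻¹ᵁ Oc' (some x) := by
          show _ = ψ ⁻¹ᵁ Oc x
          rw [hpre, ← Scheme.Hom.comp_preimage]
          congr 1
          simp only [ω, χ, m, rS, Category.assoc, pullback.lift_snd]
        haveI : IsAffineHom ((ψ ⁻¹ᵁ Oc' (some x)).ι ≫ ψ) := by
          rw [← hωpre, ← hω, ← Category.assoc, ← morphismRestrict_ι, Category.assoc]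
          infer_instance
        haveI : IsAffineHom ((ψ ∣_ Oc' (some x)) ≫ (Oc' (some x)).ι) := by
          rw [morphismRestrict_ι]
          infer_instance
        exact IsAffineHom.of_comp (ψ ∣_ Oc' (some x)) (Oc' (some x)).ι
  haveI : IsFinite ψ := by
    haveI : IsProper (ψ ≫ P1Pow.toBase N S) := by
      rw [show ψ ≫ P1Pow.toBase N S = φ ≫ P1Pow.toBase N X ≫ π ≫ f by
        simp only [ψ, Category.assoc]; rw [(P1Pow.isPullback_map N (π ≫ f)).w]]
      infer_instance
    haveI : IsProper ψ := IsProper.of_comp ψ (P1Pow.toBase N S)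
    exact (IsFinite.iff_isProper_and_isAffineHom).2 ⟨inferInstance, inferInstance⟩
  refine ⟨N, W, φ, inferInstance, ?_, ?_⟩
  · haveI : IsProper (φ ≫ P1Pow.toBase N X) := inferInstance
    exact ⟨fun x => (φ ≫ P1Pow.toBase N X).denseRange.closure_range.symm.subset.trans
      (φ ≫ P1Pow.toBase N X).isClosedMap.isClosed_range.closure_subset (Set.mem_univ x)⟩
  · show IsFinite (φ ≫ P1Pow.map N f)
    have e : π ≫ f = f := Category.id_comp f
    rw [← e]
    exact ‹IsFinite ψ›

end Groth.Agent.FinPushLib
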