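import Groth.Agent.FinBirLib.Smooth
import Groth.Agent.FinIntClosure.Normalization
import Groth.Agent.NormalSch.Normalization
import Groth.Agent.BijNormLib.Main
import Groth.Agent.CurveLib.Components
import Groth.Agent.DimLiftLib.Basic
import Groth.Agent.ASp.FiniteCoprod
import Groth.Agent.S9679

/-!
# The normalisation of a proper curve over an algebraically closed field

It is finite, smooth over the field, and bijective over the complement of finitely many points.
-/

set_option autoImplicit false
set_option backward.isDefEq.respectTransparency false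
set_option backward.isDefEq.respectTransparency.types false
set_option linter.style.haveILetI false
set_option maxHeartbeats 1000000

universe u

open CategoryTheory CategoryTheory.Limits AlgebraicGeometry TopologicalSpace Opposite

noncomputable section

namespace Groth.Agent.FinPushLib.CurveModel

/-- On a space of dimension at most one, points are closed or maximal. -/
theorem isClosed_or_maximal {X : Scheme.{u}} (hdim : topologicalKrullDim X ≤ 1) (x : X) :
    IsClosed ({x} : Set X) ∨ ∀ y : X, y ⤳ x → y = x := by
  have hd : Order.krullDim ↥X ≤ 1 := (DimLiftLib.topologicalKrullDim_eq ↥X).symm.trans_le hdim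
  rcases Order.krullDim_le_one_iff.1 hd x with h | h
  · left
    refine isClosed_of_closure_subset fun y hy => ?_
    have hs : x ⤳ y := specializes_iff_mem_closure.2 hy
    exact (Specializes.antisymm (h hs : y ⤳ x) hs).eq
  · exact Or.inr fun y hy => (hy.antisymm (h hy : x ⤳ y)).eq

/-- A noetherian sober space with closed points is finite. -/
theorem finite_of_closed_points {α : Type u} [TopologicalSpace α] [NoetherianSpace α] [QuasiSober α]
    (h : ∀ a : α, IsClosed ({a} : Set α)) : (Set.univ : Set α).Finite := by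
  refine (TopologicalSpace.NoetherianSpace.finite_irreducibleComponents (α := α)).biUnion
    (t := fun Z => Z) (fun Z hZ => ?_) |>.subset fun a _ =>
      Set.mem_biUnion (irreducibleComponent_mem_irreducibleComponents a) mem_irreducibleComponent
  obtain ⟨g, hg⟩ := QuasiSober.sober hZ.1 (isClosed_of_mem_irreducibleComponents Z hZ)
  rw [← hg.def, (h g).closure_eq]
  exact Set.finite_singleton g

/-- A proper closed subset of an irreducible curve is finite. -/
theorem finite_compl_open {X : Scheme.{u}} [IsIntegral X] [IsNoetherian X] (hdim : topologicalKrullDim X ≤ 1)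
    (U : X.Opens) (hU : (U : Set X).Nonempty) : ((U : Set X)ᶜ).Finite := by
  have hc : IsClosed ((U : Set X)ᶜ) := U.2.isClosed_compl
  haveI : QuasiSober ↥((U : Set X)ᶜ) := hc.isClosedEmbedding_subtypeVal.quasiSober
  have h : ∀ a : ↥((U : Set X)ᶜ), IsClosed ({a} : Set ↥((U : Set X)ᶜ)) := fun a => by
    rcases isClosed_or_maximal hdim a.1 with h | h
    · have : ({a} : Set ↥((U : Set X)ᶜ)) = Subtype.val ⁻¹' {a.1} := by
        ext b; simp [Subtype.ext_iff]
      rw [this]
      exact h.preimage continuous_subtype_val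
    · obtain ⟨z, hz⟩ := hU
      exact absurd ((h _ (genericPoint_specializes a.1)) ▸ (genericPoint_specializes z).mem_open U.2 hz) a.2
  exact Set.finite_coe_iff.1 (Set.finite_univ_iff.1 (finite_of_closed_points h))

/-- The restriction of a morphism over an open, on points. -/
theorem restrict_apply {X Y : Scheme.{u}} (f : X ⟶ Y) (V : Y.Opens) (z : (f ⁻¹ᵁ V).toScheme) :
    V.ι ((f ∣_ V) z) = f ((f ⁻¹ᵁ V).ι z) := by
  rw [← Scheme.Hom.comp_apply, morphismRestrict_ι, Scheme.Hom.comp_apply]

variable (k : Type u) [Field k] [IsAlgClosed k]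

/-- The normalisation of an integral proper curve. -/
theorem exists_component_model {Z : Scheme.{u}} [IsIntegral Z] (q : Z ⟶ Spec (CommRingCat.of k)) [IsProper q]
    (hdim : topologicalKrullDim Z ≤ 1) :
    ∃ (N : Scheme.{u}) (ν : N ⟶ Z) (U : Z.Opens), IsFinite ν ∧ Surjective ν ∧ Smooth (ν ≫ q) ∧
      (U : Set Z).Nonempty ∧ ∀ a b : N, ν a = ν b → ν a ∈ U → a = b := by
  let g := Z.fromSpecStalk (genericPoint Z)
  haveI : QuasiCompact (g ≫ q) :=
    (HasAffineProperty.iff_of_isAffine (P := @QuasiCompact)).2 inferInstance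
  haveI : QuasiCompact g := QuasiCompact.of_comp g q
  haveI : QuasiSeparated g := inferInstance
  have hg : g = Spec.map (CommRingCat.ofHom (RingHom.id Z.functionField)) ≫ Z.fromSpecStalk (genericPoint Z) := by
    rw [show CommRingCat.ofHom (RingHom.id Z.functionField) = 𝟙 _ from rfl, Spec.map_id]
    exact (Category.id_comp _).symm
  have hfin : (RingHom.id Z.functionField).Finite := RingHom.Finite.id _
  haveI := FinIntClosure.isFinite_fromNormalization (RingHom.id Z.functionField) g hg k q hfin
  let N := g.normalization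
  let ν : N ⟶ Z := g.fromNormalization
  let pN : N ⟶ Spec (CommRingCat.of k) := ν ≫ q
  haveI : IsFinite ν := ‹IsFinite g.fromNormalization›
  have hν : ν (genericPoint N) = genericPoint Z := NormalSch.fromNormalization_generic _ g hg
  have hsurj : Surjective ν := ⟨fun t => ((genericPoint_spec Z).specializes trivial).mem_closed
    ν.isClosedMap.isClosed_range ⟨_, hν⟩⟩
  -- smoothness
  have hnorm : Pi1.IsNormalScheme N := NormalSch.isNormalScheme_normalization _ g hg
  haveI : IsLocallyNoetherian N := LocallyOfFiniteType.isLocallyNoetherian pN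
  haveI : CompactSpace N := QuasiCompact.compactSpace_of_compactSpace pN
  haveI : IsNoetherian N := {}
  haveI : CompactSpace Z := QuasiCompact.compactSpace_of_compactSpace q
  haveI : IsLocallyNoetherian Z := LocallyOfFiniteType.isLocallyNoetherian q
  have hdN : topologicalKrullDim N ≤ 1 := (DimLiftLib.le_of_isIntegralHom ν).trans hdim
  have hsm : Smooth pN := FinBirLib.smooth_of_regular_algClosed pN fun x _ => by
    obtain ⟨h1, h2⟩ := hnorm x
    haveI := h1
    haveI := h2
    haveI : Ring.KrullDimLE 1 (N.presheaf.stalk x) := by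
      rw [Ring.krullDimLE_iff, ringKrullDim_stalk_eq_coheight x]
      refine (Order.coheight_le_krullDim x).trans ?_
      rw [← DimLiftLib.topologicalKrullDim_eq]
      exact hdN
    exact FinBirLib.isRegularLocalRing_of_normal_dimLE_one _
  -- birationality
  have hs : ∀ h : Spec (CommRingCat.of Z.functionField) ⟶ Z, h = Z.fromSpecStalk (genericPoint Z) →
      Function.Surjective (Scheme.stalkClosedPointTo h) := by
    rintro _ rfl
    refine ((ConcreteCategory.isIso_iff_bijective (Scheme.stalkClosedPointTo
      (Z.fromSpecStalk (genericPoint Z)))).1 ?_).2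
    rw [Scheme.stalkClosedPointTo_fromSpecStalk]
    infer_instance
  have hp : ∀ p, p = genericPoint N → Function.Surjective (ν.stalkMap p) →
      Function.Surjective (ν.stalkMap (genericPoint N)) := by
    rintro _ rfl h; exact h
  have hνsurj : Function.Surjective (ν.stalkMap (genericPoint N)) := by
    refine hp _ (NormalSch.generic_normalization g) fun y => ?_
    obtain ⟨w, hw⟩ := hs (g.toNormalization ≫ ν) g.toNormalization_fromNormalization
      (Scheme.stalkClosedPointTo g.toNormalization y)
    rw [Scheme.stalkClosedPointTo_comp, ConcreteCategory.comp_apply] at hw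
    exact ⟨w, NormalSch.injective_stalkClosedPointTo g hw⟩
  have hiso : IsIso (ν.stalkMap (genericPoint N)) := by
    refine (ConcreteCategory.isIso_iff_bijective _).2 ⟨?_, hνsurj⟩
    have hF : IsField (Z.presheaf.stalk (ν (genericPoint N))) := by
      rw [hν]; exact Field.toIsField Z.functionField
    letI := hF.toField
    exact RingHom.injective (ν.stalkMap (genericPoint N)).hom
  have hgen : ∀ {S : Scheme.{u}} [IsIntegral S] (x : S),
      closure {x} ∈ irreducibleComponents (S : Type u) ↔ x = genericPoint S := by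
    intro S _ x
    rw [irreducibleComponents_eq_singleton, Set.mem_singleton_iff]
    constructor
    · intro h
      exact (genericPoint_spec (S : Type u)).eq (show IsGenericPoint x Set.univ from h) |>.symm
    · rintro rfl
      exact genericPoint_spec (S : Type u)
  obtain ⟨V, hVd, hViso⟩ := Groth.Agent.S9679.result ν
    (by rw [irreducibleComponents_eq_singleton]; exact Set.finite_singleton _)
    (by rw [irreducibleComponents_eq_singleton]; exact Set.finite_singleton _)
    ⟨fun x hx => (hgen _).2 (show ν x = genericPoint Z from (hgen x).1 hx ▸ hν),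
      fun x hx y hy _ => ((hgen x).1 hx).trans ((hgen y).1 hy).symm,
      fun y hy => ⟨genericPoint N, (hgen _).2 rfl, hν.trans ((hgen y).1 hy).symm⟩⟩
    (fun x hx => (hgen x).1 hx ▸ hiso) (Or.inr inferInstance) (Or.inl ⟨inferInstance, inferInstance⟩)
  refine ⟨N, ν, V, inferInstance, hsurj, hsm, hVd.nonempty, fun a b hab ha => ?_⟩
  haveI := hViso
  let a' : (ν ⁻¹ᵁ V).toScheme := ⟨a, ha⟩
  let b' : (ν ⁻¹ᵁ V).toScheme := ⟨b, show ν b ∈ V from hab ▸ ha⟩
  have h : (ν ∣_ V) a' = (ν ∣_ V) b' := V.ι.isOpenEmbedding.injective (by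
    rw [restrict_apply, restrict_apply]; exact hab)
  exact congrArg Subtype.val ((ν ∣_ V).isOpenEmbedding.injective h)

/-- The normalisation of a proper curve, bijective outside finitely many points. -/
theorem exists_field_model {X : Scheme.{u}} (q : X ⟶ Spec (CommRingCat.of k)) [IsProper q]
    (hdim : topologicalKrullDim X ≤ 1) :
    ∃ (Y : Scheme.{u}) (ν : Y ⟶ X) (W : X.Opens), IsFinite ν ∧ Smooth (ν ≫ q) ∧ Surjective (ν ∣_ W) ∧
      UniversallyInjective (ν ∣_ W) ∧ ((W : Set X)ᶜ).Finite := by
  classical
  haveI : CompactSpace X := QuasiCompact.compactSpace_of_compactSpace q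
  haveI : IsLocallyNoetherian X := LocallyOfFiniteType.isLocallyNoetherian q
  haveI : IsNoetherian X := {}
  haveI : Finite {C : Set X // C ∈ irreducibleComponents (X : Type u)} :=
    TopologicalSpace.NoetherianSpace.finite_irreducibleComponents.to_subtype
  obtain ⟨n, ⟨e₀⟩⟩ := Finite.exists_equiv_fin {C : Set X // C ∈ irreducibleComponents (X : Type u)}
  let e := e₀.trans Equiv.ulift.{u}.symm
  let C := fun i => (e.symm i).1
  have hC : ∀ i, IsClosed (C i) := fun i => isClosed_of_mem_irreducibleComponents _ (e.symm i).2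
  let Z := fun i => (Scheme.IdealSheafData.vanishingIdeal (⟨C i, hC i⟩ : Closeds X)).subscheme
  let ι := fun i => (Scheme.IdealSheafData.vanishingIdeal (⟨C i, hC i⟩ : Closeds X)).subschemeι
  have hι : ∀ i, Set.range (ι i) = C i := fun i => by
    rw [Scheme.IdealSheafData.range_subschemeι, Scheme.IdealSheafData.coe_support_vanishingIdeal]
    rfl
  haveI : ∀ i, IsIntegral (Z i) := fun i => CurveLib.isIntegral_vanishingIdeal (hC i) (e.symm i).2.1
  have hdZ : ∀ i, topologicalKrullDim (Z i) ≤ 1 := fun i => (DimLiftLib.le_of_isIntegralHom (ι i)).trans hdim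
  haveI : ∀ i, IsNoetherian (Z i) := fun i =>
    haveI := LocallyOfFiniteType.isLocallyNoetherian (ι i ≫ q)
    haveI := QuasiCompact.compactSpace_of_compactSpace (ι i ≫ q)
    {}
  choose N μ U hfin hsurj hsm hne hinj using fun i => exists_component_model k (ι i ≫ q) (hdZ i)
  let ν : ∐ N ⟶ X := Limits.Sigma.desc fun i => μ i ≫ ι i
  haveI : IsFinite ν := ASp.isFinite_sigmaDesc N _ fun i => haveI := hfin i; inferInstance
  haveI : Smooth (ν ≫ q) := by
    have : ν ≫ q = Limits.Sigma.desc fun i => μ i ≫ ι i ≫ q := Limits.Sigma.hom_ext _ _ fun i => by simp [ν]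
    rw [this]
    exact IsZariskiLocalAtSource.sigmaDesc hsm
  -- the exceptional points
  let B : Set X := (⋃ i, ι i '' ((U i : Set (Z i))ᶜ)) ∪ ⋃ i, ⋃ j, if i = j then ∅ else C i ∩ C j
  have hBf : B.Finite := by
    refine Set.Finite.union (Set.finite_iUnion fun i => (finite_compl_open (hdZ i) (U i) (hne i)).image _)
      (Set.finite_iUnion fun i => Set.finite_iUnion fun j => ?_)
    split_ifs with hij
    · exact Set.finite_empty
    · let O : (Z i).Opens := ⟨(ι i ⁻¹' C j)ᶜ, ((hC j).preimage (ι i).continuous).isOpen_compl⟩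
      have hO : (O : Set (Z i)).Nonempty := by
        by_contra h0
        rw [Set.not_nonempty_iff_eq_empty] at h0
        have hsub : C i ⊆ C j := by
          rw [← hι i]
          rintro _ ⟨z, rfl⟩
          by_contra hz
          exact h0.subset (show z ∈ (O : Set (Z i)) from hz)
        exact hij (e.symm.injective (Subtype.ext (subset_antisymm hsub ((e.symm i).2.2 (e.symm j).2.1 hsub))))
      refine ((finite_compl_open (hdZ i) O hO).image (ι i)).subset ?_
      rintro x ⟨hxi, hxj⟩
      rw [← hι i] at hxi
      obtain ⟨z, rfl⟩ := hxi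
      exact ⟨z, not_not.2 hxj, rfl⟩
  have hBc : IsClosed B := by
    refine IsClosed.union (isClosed_iUnion_of_finite fun i =>
      (ι i).isClosedEmbedding.isClosedMap _ (U i).2.isClosed_compl)
      (isClosed_iUnion_of_finite fun i => isClosed_iUnion_of_finite fun j => ?_)
    split_ifs with hij
    · exact isClosed_empty
    · exact (hC i).inter (hC j)
  let W : X.Opens := ⟨Bᶜ, hBc.isOpen_compl⟩
  have hval : ∀ i (a : N i), ν (Limits.Sigma.ι N i a) = ι i (μ i a) := fun i a => by
    rw [← Scheme.Hom.comp_apply, Limits.Sigma.ι_desc, Scheme.Hom.comp_apply]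
  have hinjW : ∀ a b : ↥(∐ N), ν a = ν b → ν a ∈ W → a = b := by
    intro a b hab ha
    obtain ⟨i, x, rfl⟩ := (sigmaOpenCover N).exists_eq a
    obtain ⟨j, y, rfl⟩ := (sigmaOpenCover N).exists_eq b
    change ν (Limits.Sigma.ι N i x) = ν (Limits.Sigma.ι N j y) at hab
    change ν (Limits.Sigma.ι N i x) ∈ W at ha
    rw [hval, hval] at hab
    rw [hval] at ha
    obtain rfl : i = j := by
      by_contra hij
      refine ha (Or.inr (Set.mem_iUnion.2 ⟨i, Set.mem_iUnion.2 ⟨j, ?_⟩⟩))
      rw [if_neg hij]
      exact ⟨(hι i).subset ⟨μ i x, rfl⟩, (hι j).subset ⟨μ j y, hab.symm⟩⟩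
    obtain rfl : x = y := hinj i x y ((ι i).isClosedEmbedding.injective hab) (by
      by_contra hx
      exact ha (Or.inl (Set.mem_iUnion.2 ⟨i, _, hx, rfl⟩)))
    rfl
  haveI hWsurj : Surjective (ν ∣_ W) := ⟨fun w => by
    obtain ⟨i, hi⟩ : ∃ i, W.ι w ∈ C i := ⟨e ⟨_, irreducibleComponent_mem_irreducibleComponents _⟩, by
      simp only [C, Equiv.symm_apply_apply]; exact mem_irreducibleComponent⟩
    rw [← hι i] at hi
    obtain ⟨z, hz⟩ := hi
    haveI := hsurj i
    obtain ⟨a, rfl⟩ := (μ i).surjective z
    rw [← hval] at hz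
    exact ⟨⟨_, show ν (Limits.Sigma.ι N i a) ∈ W from hz ▸ w.2⟩,
      W.ι.isOpenEmbedding.injective (by rw [restrict_apply]; exact hz)⟩⟩
  haveI : IsFinite (ν ∣_ W) := IsZariskiLocalAtTarget.restrict (P := @IsFinite) ‹IsFinite ν› W
  have hWui : UniversallyInjective (ν ∣_ W) := BijNormLib.universallyInjective_of_injective (W.ι ≫ q) (ν ∣_ W)
    fun a b hab => by
      have h := congrArg W.ι hab
      rw [restrict_apply, restrict_apply] at h
      exact (ν ⁻¹ᵁ W).ι.isOpenEmbedding.injective (hinjW _ _ h a.2)
  refine ⟨∐ N, ν, W, inferInstance, inferInstance, hWsurj, hWui, ?_⟩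
  show (Bᶜᶜ).Finite
  rw [compl_compl]
  exact hBf

end Groth.Agent.FinPushLib.CurveModel
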