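import Groth.Agent.FinPushLib.Basic
import Groth.Agent.FinPushLib.Chow
import Groth.Agent.CurveLib.Components

/-!
# Constructibility of proper direct images follows from the case of the projective line
-/

set_option autoImplicit false
set_option backward.isDefEq.respectTransparency false
set_option backward.isDefEq.respectTransparency.types false
set_option linter.style.haveILetI false
set_option linter.unusedSectionVars false
set_option maxHeartbeats 1000000
set_option synthInstance.maxHeartbeats 400000

universe u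

open CategoryTheory CategoryTheory.Limits AlgebraicGeometry Opposite TopologicalSpace

attribute [local instance] Groth.Agent.S0101.result

noncomputable section

namespace Groth.Agent.FinPushLib

open PBCLib

theorem isNoetherian_of_proper {X S : Scheme.{u}} [IsNoetherian S] (f : X ⟶ S) [IsProper f] : IsNoetherian X :=
  haveI := LocallyOfFiniteType.isLocallyNoetherian f
  haveI := QuasiCompact.compactSpace_of_compactSpace f
  {}

theorem pushConstr_comp_all {T X S : Scheme.{u}} [IsNoetherian S] (a : T ⟶ X) (b : X ⟶ S)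
    (ha : ∀ q, PushConstr a q) (hb : ∀ q, PushConstr b q) (q : ℕ) : PushConstr (a ≫ b) q :=
  pushConstr_comp a b q (fun j _ => ha j) (fun i _ => hb i)

/-- The hypothesis: the projective line over any noetherian scheme. -/
def P1Good : Prop :=
  ∀ (S : Scheme.{u}) [IsNoetherian S] (q : ℕ), PushConstr (P1Pow.toBase 1 S) q

theorem pushConstr_P1Pow (h1 : P1Good.{u}) : ∀ (N : ℕ) (S : Scheme.{u}) [IsNoetherian S] (q : ℕ),
    PushConstr (P1Pow.toBase N S) q
  | 0, S, _, q => pushConstr_finite (𝟙 S) q
  | N + 1, S, _, q => by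
    haveI := P1Pow.isProper_toBase N S
    haveI : IsNoetherian (P1Pow N S) := isNoetherian_of_proper (P1Pow.toBase N S)
    have e : CohB1.ProjSpaceOver.toBase 1 (P1Pow N S) = P1Pow.toBase 1 (P1Pow N S) :=
      (Category.comp_id _).symm
    show PushConstr (CohB1.ProjSpaceOver.toBase 1 (P1Pow N S) ≫ P1Pow.toBase N S) q
    rw [e]
    exact pushConstr_comp_all _ _ (h1 _) (pushConstr_P1Pow h1 N S) q

theorem pushConstr_affine (h1 : P1Good.{u}) {A : Type u} [CommRing A] [IsNoetherianRing A] {X : Scheme.{u}}
    (f : X ⟶ Spec (CommRingCat.of A)) [IsProper f] (q : ℕ) : PushConstr f q := by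
  haveI := isNoetherian_of_proper f
  haveI : Finite {C : Set X // C ∈ irreducibleComponents (X : Type u)} :=
    TopologicalSpace.NoetherianSpace.finite_irreducibleComponents.to_subtype
  let e := (Finite.exists_equiv_fin {C : Set X // C ∈ irreducibleComponents (X : Type u)}).choose_spec.some
  let C := fun i => (e.symm i).1
  have hC : ∀ i, IsClosed (C i) := fun i => isClosed_of_mem_irreducibleComponents _ (e.symm i).2
  let Z := fun i => (Scheme.IdealSheafData.vanishingIdeal (⟨C i, hC i⟩ : Closeds X)).subscheme
  let ι := fun i => (Scheme.IdealSheafData.vanishingIdeal (⟨C i, hC i⟩ : Closeds X)).subschemeι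
  have hι : ∀ i, Set.range (ι i) = C i := fun i => by
    rw [Scheme.IdealSheafData.range_subschemeι, Scheme.IdealSheafData.coe_support_vanishingIdeal]
    rfl
  haveI : ∀ i, IsIntegral (Z i) := fun i => CurveLib.isIntegral_vanishingIdeal (hC i) (e.symm i).2.1
  choose N W φ hφ hsurj hfin using fun i => exists_chow (ι i ≫ f)
  let π := fun i => φ i ≫ P1Pow.toBase (N i) (Z i) ≫ ι i
  refine pushConstr_of_cover f π (fun x => ?_) (fun i j => ?_) (fun i j => ?_) q
  · refine ⟨e ⟨_, irreducibleComponent_mem_irreducibleComponents x⟩, ?_⟩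
    obtain ⟨z, hz⟩ : x ∈ Set.range (ι (e ⟨_, irreducibleComponent_mem_irreducibleComponents x⟩)) := by
      rw [hι]
      simp only [C, Equiv.symm_apply_apply]
      exact mem_irreducibleComponent
    haveI := hsurj (e ⟨_, irreducibleComponent_mem_irreducibleComponents x⟩)
    obtain ⟨w, hw⟩ := (φ (e ⟨_, irreducibleComponent_mem_irreducibleComponents x⟩) ≫ P1Pow.toBase _ _).surjective z
    refine ⟨w, Eq.trans ?_ hz⟩
    show (φ _ ≫ P1Pow.toBase _ _ ≫ ι _) w = _
    rw [← hw]
    simp only [Scheme.Hom.comp_apply]
  · haveI := hφ i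
    haveI : IsNoetherian (Z i) := isNoetherian_of_proper (ι i ≫ f)
    haveI := P1Pow.isProper_toBase (N i) (Z i)
    haveI : IsNoetherian (P1Pow (N i) (Z i)) := isNoetherian_of_proper (P1Pow.toBase (N i) (Z i))
    haveI : IsNoetherian (W i) := isNoetherian_of_proper (φ i)
    exact pushConstr_comp_all _ _ (pushConstr_finite (φ i))
      (pushConstr_comp_all _ _ (pushConstr_P1Pow h1 (N i) (Z i)) (pushConstr_finite (ι i))) j
  · haveI := hfin i
    haveI := P1Pow.isProper_toBase (N i) (Spec (CommRingCat.of A))
    haveI : IsNoetherian (P1Pow (N i) (Spec (CommRingCat.of A))) :=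
      isNoetherian_of_proper (P1Pow.toBase (N i) (Spec (CommRingCat.of A)))
    haveI : IsNoetherian (W i) := isNoetherian_of_proper (φ i ≫ P1Pow.map (N i) (ι i ≫ f))
    have e' : π i ≫ f = (φ i ≫ P1Pow.map (N i) (ι i ≫ f)) ≫ P1Pow.toBase (N i) (Spec (CommRingCat.of A)) := by
      simp only [π, Category.assoc, (P1Pow.isPullback_map (N i) (ι i ≫ f)).w]
      rfl
    rw [e']
    exact pushConstr_comp_all _ _ (pushConstr_finite _) (pushConstr_P1Pow h1 (N i) _) j

/-- Proper direct images of constructible sheaves are constructible, given the projective line. -/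
theorem pushConstr_proper (h1 : P1Good.{u}) {X S : Scheme.{u}} [IsNoetherian S] (f : X ⟶ S) [IsProper f] (q : ℕ) :
    PushConstr f q := by
  intro F hF
  haveI := isNoetherian_of_proper f
  refine S0129.result _ (fun U : S.affineOpens => U.1) (iSup_affineOpens_eq_top S) fun U => ?_
  obtain ⟨e⟩ := nonempty_pull_Rpush_iso f U.1.ι (f ∣_ U.1) (f ⁻¹ᵁ U.1).ι (isPullback_morphismRestrict f U.1).flip F
    (isTorsion_of_isConstructible hF) q
  refine FLCLib.isConstructible_of_iso e.symm ?_
  haveI : IsNoetherianRing Γ(S, U.1) := IsLocallyNoetherian.component_noetherian U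
  haveI : IsNoetherian (U.1 : Scheme.{u}) :=
    haveI := isLocallyNoetherian_of_isOpenImmersion U.1.ι
    haveI : CompactSpace (U.1 : Scheme.{u}) := isCompact_iff_compactSpace.1 U.2.isCompact
    {}
  let i := U.2.isoSpec
  have h : f ∣_ U.1 = ((f ∣_ U.1) ≫ i.hom) ≫ i.inv := by rw [Category.assoc, Iso.hom_inv_id, Category.comp_id]
  rw [h]
  exact pushConstr_comp_all _ _ (pushConstr_affine h1 ((f ∣_ U.1) ≫ i.hom)) (pushConstr_finite i.inv) q _
    (FLCLib.isConstructible_pull _ hF)

end Groth.Agent.FinPushLib
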