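import Groth.Agent.FinPushLib.Middle
import Mathlib.Algebra.Homology.Embedding.CochainComplex
import Mathlib.Algebra.Homology.Embedding.ExtendHomology
import Mathlib.Algebra.Homology.Embedding.HomEquiv
import Mathlib.Algebra.Homology.Embedding.StupidTrunc

/-!
# Classes closed under five term sequences, and hypercohomology

`P` is closed under the middle of five term exact sequences. For a complex `K` of acyclic objects for a left
exact `G`, `P` propagates from the `Rᵃ G (Hʲ K)` to the cohomology of `G K`.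
-/

set_option autoImplicit false
set_option backward.isDefEq.respectTransparency false
set_option linter.style.haveILetI false
set_option linter.unusedSectionVars false
set_option maxHeartbeats 1000000

universe v u v' u'

open CategoryTheory CategoryTheory.Limits HomologicalComplex

noncomputable section

namespace Groth.Agent.FinPushLib

variable {C : Type u} [Category.{v} C] [Abelian C] [EnoughInjectives C]
  {D : Type u'} [Category.{v'} D] [Abelian D]

/-- A class of objects closed under the middle of five term exact sequences. -/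
structure FiveClass (P : D → Prop) : Prop where
  zero : ∀ X : D, IsZero X → P X
  of_iso : ∀ {X Y : D}, (X ≅ Y) → P X → P Y
  five : ∀ {A₁ A₂ A₃ A₄ A₅ : D} (f₀ : A₁ ⟶ A₂) (f : A₂ ⟶ A₃) (g : A₃ ⟶ A₄) (k : A₄ ⟶ A₅) (w₀ : f₀ ≫ f = 0)
    (w₁ : f ≫ g = 0) (w₂ : g ≫ k = 0), (ShortComplex.mk f₀ f w₀).Exact → (ShortComplex.mk f g w₁).Exact →
    (ShortComplex.mk g k w₂).Exact → P A₁ → P A₂ → P A₄ → P A₅ → P A₃

section Composite

variable (G : C ⥤ D) [G.Additive] [PreservesFiniteLimits G] (K : CochainComplex C ℕ) {P : D → Prop}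
  (hK : ∀ j a : ℕ, IsZero ((G.rightDerived (a + 1)).obj (K.X j)))

include hK in
theorem bdry_of_cycles' (Δ : RDer.DerivedLES G) (hP : FiveClass P) {a j : ℕ} (ha : 1 ≤ a)
    (h : P ((G.rightDerived (a + 1)).obj (K.cycles j))) : P ((G.rightDerived a).obj (bdry K (j + 1))) := by
  obtain ⟨a, rfl⟩ : ∃ b, a = b + 1 := ⟨a - 1, by omega⟩
  let δ := Δ.δ (seqZKB K j) (shortExact_seqZKB K j) (a + 1) (a + 1 + 1) rfl
  haveI : Mono δ := (Δ.exact₃ (seqZKB K j) (shortExact_seqZKB K j) (a + 1) (a + 1 + 1) rfl).mono_g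
    ((hK j a).eq_of_src _ _)
  haveI : Epi δ := (Δ.exact₁ (seqZKB K j) (shortExact_seqZKB K j) (a + 1) (a + 1 + 1) rfl).epi_f
    ((hK j (a + 1)).eq_of_tgt _ _)
  haveI : IsIso δ := isIso_of_mono_of_epi δ
  exact hP.of_iso (asIso δ).symm h

include hK in
/-- The higher derived functors of the cocycles. -/
theorem cycles_of_homology' (Δ : RDer.DerivedLES G) (hP : FiveClass P)
    (h : ∀ a j, P ((G.rightDerived a).obj (K.homology j))) :
    ∀ (j a : ℕ), 1 ≤ a → P ((G.rightDerived a).obj (K.cycles j))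
  | 0, a, _ => by
    haveI := isIso_homologyπ_zero' K
    exact hP.of_iso ((G.rightDerived a).mapIso (asIso (K.homologyπ 0)).symm) (h a 0)
  | j + 1, a, ha => by
    obtain ⟨a, rfl⟩ : ∃ b, a = b + 1 := ⟨a - 1, by omega⟩
    have hS := shortExact_seqBZH K (j + 1)
    exact hP.five _ _ _ _ (Δ.δ_comp (seqBZH K (j + 1)) hS a (a + 1) rfl) _
      (Δ.comp_δ (seqBZH K (j + 1)) hS (a + 1) (a + 1 + 1) rfl)
      (Δ.exact₁ (seqBZH K (j + 1)) hS a (a + 1) rfl) (Δ.exact₂ (seqBZH K (j + 1)) hS (a + 1))
      (Δ.exact₃ (seqBZH K (j + 1)) hS (a + 1) (a + 1 + 1) rfl) (h a (j + 1))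
      (bdry_of_cycles' G K hK Δ hP (by omega) (cycles_of_homology' Δ hP h j (a + 1 + 1) (by omega)))
      (h (a + 1) (j + 1))
      (bdry_of_cycles' G K hK Δ hP (by omega) (cycles_of_homology' Δ hP h j (a + 1 + 1 + 1) (by omega)))

include hK in
/-- If all the `Rᵃ G (Hʲ K)` are in `P`, so is the cohomology of `G K`. -/
theorem homology_map_mem' (hP : FiveClass P) (h : ∀ a j, P ((G.rightDerived a).obj (K.homology j))) (q : ℕ) :
    P (((G.mapHomologicalComplex (ComplexShape.up ℕ)).obj K).homology q) := by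
  obtain ⟨Δ⟩ := RDerLib.nonempty_derivedLES G
  rcases q with _ | q
  · let L := (G.mapHomologicalComplex (ComplexShape.up ℕ)).obj K
    haveI := isIso_homologyπ_zero' K
    haveI := isIso_homologyπ_zero L
    have hZ := KernelFork.mapIsLimit _ (K.cyclesIsKernel 0 1 (by simp)) G
    let e : G.obj (K.cycles 0) ≅ L.cycles 0 := IsLimit.conePointUniqueUpToIso hZ (L.cyclesIsKernel 0 1 (by simp))
    exact hP.of_iso ((asIso (G.toRightDerivedZero.app (K.homology 0))).symm ≪≫
      G.mapIso (asIso (K.homologyπ 0)).symm ≪≫ e ≪≫ asIso (L.homologyπ 0)) (h 0 0)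
  · obtain ⟨φ, ψ, w, hex, hφ, hπψ⟩ := exists_compare G K hK Δ q
    have hS := shortExact_seqBZH K (q + 1)
    let δ := Δ.δ (seqBZH K (q + 1)) hS 0 1 rfl
    -- exactness at `R⁰ G H`
    have w₂ : ψ ≫ δ = 0 := by
      rw [← cancel_epi (cokernel.π ((G.rightDerived 0).map (K.toCycles q (q + 1)))), reassoc_of% hπψ, comp_zero]
      exact Δ.comp_δ (seqBZH K (q + 1)) hS 0 1 rfl
    have hex₂ : (ShortComplex.mk ψ δ w₂).Exact := by
      rw [ShortComplex.exact_iff_exact_up_to_refinements]
      intro A x hx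
      obtain ⟨A₁, π₁, _, z, hz⟩ :=
        (Δ.exact₃ (seqBZH K (q + 1)) hS 0 1 rfl).exact_up_to_refinements x hx
      refine ⟨A₁, π₁, inferInstance, z ≫ cokernel.π ((G.rightDerived 0).map (K.toCycles q (q + 1))), ?_⟩
      refine hz.trans ?_
      show z ≫ (G.rightDerived 0).map (K.homologyπ (q + 1)) = (z ≫ cokernel.π _) ≫ ψ
      rw [Category.assoc, hπψ]
    refine hP.of_iso (nonempty_homologyIso G K q).some (hP.five (0 : (G.rightDerived 1).obj (K.cycles q) ⟶ _) φ ψ δ
      zero_comp w w₂ ((ShortComplex.exact_iff_mono _ rfl).2 hφ) hex hex₂ ?_ ?_ (h 0 (q + 1)) ?_)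
    · exact cycles_of_homology' G K hK Δ hP h q 1 le_rfl
    · exact cycles_of_homology' G K hK Δ hP h q 1 le_rfl
    · exact bdry_of_cycles' G K hK Δ hP le_rfl (cycles_of_homology' G K hK Δ hP h q 2 (by omega))

end Composite

section Int

variable (G : C ⥤ D) [G.Additive] [PreservesFiniteLimits G] {P : D → Prop}

/-- A complex in degrees `≥ a` is the extension of its restriction. -/
theorem nonempty_homology_restriction {E : Type u'} [Category.{v'} E] [Abelian E] (T : CochainComplex E ℤ) (a : ℤ)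
    [T.IsStrictlyGE a] (j : ℕ) (j' : ℤ) (h : a + j = j') :
    Nonempty ((T.restriction (ComplexShape.embeddingUpIntGE a)).homology j ≅ T.homology j') := by
  let e := ComplexShape.embeddingUpIntGE a
  have hl : e.HasLift (𝟙 (T.restriction e)) := fun i hi i' hi' => by
    refine IsZero.eq_of_src (CochainComplex.isZero_of_isStrictlyGE T a i' ?_) _ _
    rw [ComplexShape.boundaryGE_embeddingUpIntGE_iff] at hi
    subst hi
    have h1 : i' + 1 = e.f 0 := hi'
    have h2 : e.f 0 = a := by simp [e]
    omega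
  let ψ : T ⟶ (T.restriction e).extend e := e.liftExtend (𝟙 _) hl
  haveI : ∀ i' : ℤ, IsIso (ψ.f i') := fun i' => by
    by_cases hi : a ≤ i'
    · obtain ⟨i, hi⟩ := Int.eq_ofNat_of_zero_le (sub_nonneg.2 hi)
      have hi' : e.f i = i' := by simp [e]; omega
      rw [ComplexShape.Embedding.liftExtend_f e _ hl hi']
      infer_instance
    · refine ⟨0, IsZero.eq_of_src (CochainComplex.isZero_of_isStrictlyGE T a i' (by omega)) _ _,
        IsZero.eq_of_src ((T.restriction e).isZero_extend_X e i' fun i hi' => ?_) _ _⟩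
      simp [e] at hi'
      omega
  haveI : IsIso ψ := HomologicalComplex.Hom.isIso_of_components ψ
  exact ⟨((T.restriction e).extendHomologyIso e (show e.f j = j' by simpa [e] using h)).symm ≪≫
    (HomologicalComplex.homologyFunctor E _ j').mapIso (asIso ψ).symm⟩

/-- Hypercohomology of a bounded below complex of acyclic objects. -/
theorem homology_map_mem_int (hP : FiveClass P) (T : CochainComplex C ℤ) (a : ℤ) [T.IsStrictlyGE a]
    (hT : ∀ (n : ℤ) (p : ℕ), IsZero ((G.rightDerived (p + 1)).obj (T.X n)))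
    (h : ∀ (p : ℕ) (n : ℤ), P ((G.rightDerived p).obj (T.homology n))) (n : ℤ) :
    P (((G.mapHomologicalComplex (ComplexShape.up ℤ)).obj T).homology n) := by
  let L : CochainComplex D ℤ := (G.mapHomologicalComplex (ComplexShape.up ℤ)).obj T
  haveI : L.IsStrictlyGE a := (CochainComplex.isStrictlyGE_iff L a).2 fun i hi =>
    G.map_isZero (CochainComplex.isZero_of_isStrictlyGE T a i hi)
  by_cases hn : n < a
  · exact hP.zero _ (ShortComplex.isZero_homology_of_isZero_X₂ _ (CochainComplex.isZero_of_isStrictlyGE L a n hn))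
  obtain ⟨j, hj⟩ := Int.eq_ofNat_of_zero_le (sub_nonneg.2 (not_lt.1 hn))
  let e := ComplexShape.embeddingUpIntGE a
  let K : CochainComplex C ℕ := T.restriction e
  let eK : (G.mapHomologicalComplex (ComplexShape.up ℕ)).obj K ≅ L.restriction e :=
    HomologicalComplex.Hom.isoOfComponents (fun i => Iso.refl _) (fun i k _ => by simp [K, L])
  obtain ⟨e₁⟩ := nonempty_homology_restriction L a j n (by omega)
  refine hP.of_iso ((HomologicalComplex.homologyFunctor D _ j).mapIso eK ≪≫ e₁)
    (homology_map_mem' G K (fun i p => hT _ p) hP (fun p i => ?_) j)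
  obtain ⟨e₂⟩ := nonempty_homology_restriction T a i (a + i) rfl
  exact hP.of_iso ((G.rightDerived p).mapIso e₂).symm (h p _)

end Int

end Groth.Agent.FinPushLib
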