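import Groth.Agent.FinPushLib.Basic
import Groth.Agent.S8527
import Groth.Agent.S8546
import Groth.Agent.EtAlgEasy.FibLocusFin
import Groth.Agent.CurveLib.Components

/-!
# Generic constructibility

`GenC G`: on a nonempty open of an irreducible noetherian scheme `G` is constructible. It descends along dominant
morphisms of finite type, and constructibility follows from it on all integral subschemes.
-/

set_option autoImplicit false
set_option backward.isDefEq.respectTransparency false
set_option backward.isDefEq.respectTransparency.types false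
set_option linter.style.haveILetI false
set_option linter.unusedSectionVars false
set_option maxHeartbeats 1000000
set_option synthInstance.maxHeartbeats 400000

universe u

open CategoryTheory CategoryTheory.Limits AlgebraicGeometry Opposite TopologicalSpace

attribute [local instance] Groth.Agent.S0101.result

noncomputable section

namespace Groth.Agent.FinPushLib

variable {T : Scheme.{u}}

/-- Constructible on some nonempty open. -/
def GenC (G : EtCoh.Ab T) : Prop :=
  ∃ V : T.Opens, (V : Set T).Nonempty ∧ EtPBC.IsConstructible ((EtCoh.pull V.ι).obj G)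

theorem isNoetherian_opens [IsNoetherian T] (V : T.Opens) : IsNoetherian (V : Scheme.{u}) :=
  haveI := isLocallyNoetherian_of_isOpenImmersion V.ι
  haveI : CompactSpace (V : Scheme.{u}) := isCompact_iff_compactSpace.1 (TopologicalSpace.NoetherianSpace.isCompact _)
  {}

theorem genC_of_isConstructible [IsNoetherian T] [Nonempty T] {G : EtCoh.Ab T} (h : EtPBC.IsConstructible G) :
    GenC G := by
  haveI := isNoetherian_opens (⊤ : T.Opens)
  exact ⟨⊤, Set.univ_nonempty, FLCLib.isConstructible_pull _ h⟩

/-- Restriction to a smaller open. -/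
theorem isConstructible_pull_le {G : EtCoh.Ab T} {V W : T.Opens} (h : W ≤ V)
    (hG : EtPBC.IsConstructible ((EtCoh.pull V.ι).obj G)) : EtPBC.IsConstructible ((EtCoh.pull W.ι).obj G) :=
  FLCLib.isConstructible_of_iso (((EtCore.pullComp (T.homOfLE h) V.ι).symm ≪≫
    EtCore.pullCongr (T.homOfLE_ι h)).app G) (FLCLib.isConstructible_pull _ hG)

theorem midClass_genC [IsNoetherian T] [IrreducibleSpace T] : MidClass (GenC (T := T)) where
  zero G hG := by
    haveI := isNoetherian_opens (⊤ : T.Opens)
    exact ⟨⊤, Set.univ_nonempty, FLCLib.isConstructible_of_isZero ((EtCoh.pull (⊤ : T.Opens).ι).map_isZero hG)⟩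
  mid S hS h₁ h₃ := by
    obtain ⟨V, hV, hV₁⟩ := h₁
    obtain ⟨W, hW, hW₃⟩ := h₃
    refine ⟨V ⊓ W, nonempty_preirreducible_inter V.2 W.2 hV hW, ?_⟩
    haveI := isNoetherian_opens (V ⊓ W)
    haveI := BCDLib.rightExactPull (V ⊓ W).ι
    exact (midClass (X := (V ⊓ W : T.Opens).toScheme)).mid _ (hS.map (EtCoh.pull (V ⊓ W).ι))
      (isConstructible_pull_le inf_le_left hV₁) (isConstructible_pull_le inf_le_right hW₃)

/-- Descent along a dominant morphism of finite type. -/
theorem genC_of_dominant [IsNoetherian T] [IsIntegral T] {T' : Scheme.{u}} [IrreducibleSpace T'] (g : T' ⟶ T)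
    [LocallyOfFiniteType g] [QuasiCompact g] [IsDominant g] {G : EtCoh.Ab T}
    (h : GenC ((EtCoh.pull g).obj G)) : GenC G := by
  obtain ⟨V', hV', hc⟩ := h
  haveI : IsLocallyNoetherian T' := LocallyOfFiniteType.isLocallyNoetherian g
  haveI : CompactSpace T' := QuasiCompact.compactSpace_of_compactSpace g
  haveI : IsNoetherian T' := {}
  haveI := isNoetherian_opens V'
  haveI : QuasiCompact V'.ι := inferInstance
  let k := V'.ι ≫ g
  haveI : LocallyOfFinitePresentation k := inferInstance
  have hE : Topology.IsLocallyConstructible (Set.range k) := by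
    have := k.isLocallyConstructible_image (s := Set.univ) Topology.IsConstructible.univ.isLocallyConstructible
    rwa [Set.image_univ] at this
  have hη : genericPoint T ∈ Set.range k := by
    have h1 : g (genericPoint T') = genericPoint T := by
      refine ((genericPoint_spec T').image g.continuous).eq ?_
      rw [Set.image_univ, g.denseRange.closure_range]
      exact genericPoint_spec T
    have h2 : genericPoint T' ∈ V' :=
      ((genericPoint_spec T').mem_open_set_iff V'.2).2 (by simpa using hV')
    exact ⟨⟨_, h2⟩, (Scheme.Hom.comp_apply _ _ _).trans h1⟩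
  obtain ⟨V, hV, hVE⟩ := EtAlgEasy.FibLocus.exists_open_subset hE hη
  refine ⟨V, hV, ?_⟩
  haveI : Surjective (k ∣_ V) := ⟨fun v => by
    obtain ⟨w, hw⟩ := hVE v.2
    refine ⟨⟨w, by rw [Scheme.Hom.mem_preimage, hw]; exact v.2⟩, V.ι.isOpenEmbedding.injective ?_⟩
    rw [← Scheme.Hom.comp_apply, morphismRestrict_ι]
    exact hw⟩
  rw [S8546.result (k ∣_ V)]
  refine FLCLib.isConstructible_of_iso ?_ (FLCLib.isConstructible_pull (k ⁻¹ᵁ V).ι hc)
  exact (EtCoh.pull (k ⁻¹ᵁ V).ι).mapIso (Iso.refl _) ≪≫
    (((EtCore.pullComp (k ⁻¹ᵁ V).ι V'.ι).symm ≪≫ EtCore.pullCongr rfl ≪≫ Iso.refl _).app _) ≪≫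
    (((EtCore.pullComp ((k ⁻¹ᵁ V).ι ≫ V'.ι) g).symm ≪≫ EtCore.pullCongr (by
        rw [morphismRestrict_ι, Category.assoc]) ≪≫ EtCore.pullComp (k ∣_ V) V.ι).app G)

/-- Constructibility from generic constructibility on all integral affine subschemes. -/
theorem isConstructible_of_genC {S : Scheme.{u}} [IsNoetherian S] (G : EtCoh.Ab S)
    (h : ∀ (T : Scheme.{u}) (i : T ⟶ S) [IsImmersion i] [IsNoetherian T] [IsIntegral T] [IsAffine T],
      GenC ((EtCoh.pull i).obj G)) :
    EtPBC.IsConstructible G := by
  rw [S8527.result]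
  intro x
  let C : Closeds S := ⟨closure {x}, isClosed_closure⟩
  let Z := (Scheme.IdealSheafData.vanishingIdeal C).subscheme
  let z := (Scheme.IdealSheafData.vanishingIdeal C).subschemeι
  have hz : Set.range z = closure {x} := by
    rw [Scheme.IdealSheafData.range_subschemeι, Scheme.IdealSheafData.coe_support_vanishingIdeal]
    rfl
  haveI : IsIntegral Z := CurveLib.isIntegral_vanishingIdeal isClosed_closure isIrreducible_singleton.closure
  haveI : IsNoetherian Z :=
    haveI := LocallyOfFiniteType.isLocallyNoetherian z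
    haveI := QuasiCompact.compactSpace_of_compactSpace z
    {}
  obtain ⟨U, hU, hηU, -⟩ := exists_isAffineOpen_mem_and_subset (show genericPoint Z ∈ (⊤ : Z.Opens) from trivial)
  haveI : IsAffine (U : Scheme.{u}) := hU
  haveI := isNoetherian_opens U
  haveI : Nonempty (U : Scheme.{u}) := ⟨⟨_, hηU⟩⟩
  haveI : IsIntegral (U : Scheme.{u}) := isIntegral_of_isOpenImmersion U.ι
  obtain ⟨V, hV, hc⟩ := h (U : Scheme.{u}) (U.ι ≫ z)
  haveI := isNoetherian_opens V
  have hηV : genericPoint (U : Scheme.{u}) ∈ V :=
    ((genericPoint_spec (U : Scheme.{u})).mem_open_set_iff V.2).2 (by simpa using hV)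
  obtain ⟨V₁, T₁, g₁, hg₁, hxV₁, hr₁, hflc⟩ := (S8527.result _).1 hc ⟨_, hηV⟩
  haveI := hg₁
  have hcl : closure {(⟨genericPoint (U : Scheme.{u}), hηV⟩ : V.toScheme)} = Set.univ := by
    rw [Topology.IsEmbedding.closure_eq_preimage_closure_image V.ι.isEmbedding, Set.image_singleton]
    refine Set.eq_univ_of_forall fun v => ?_
    rw [Set.mem_preimage, show V.ι (⟨genericPoint (U : Scheme.{u}), hηV⟩ : V.toScheme) = genericPoint (U : Scheme.{u}) from rfl,
      genericPoint_closure]
    trivial
  rw [hcl, Set.inter_univ] at hr₁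
  -- the open of `S` cutting the flc piece out of the closure of `x`
  let k := g₁ ≫ V.ι ≫ U.ι
  have hk : IsOpen (Set.range k) := by
    rw [show Set.range k = (V.ι ≫ U.ι) '' Set.range g₁ from by
      rw [← Set.range_comp]; exact congrArg Set.range (funext fun t => Scheme.Hom.comp_apply _ _ _), hr₁]
    exact (V.ι ≫ U.ι).isOpenEmbedding.isOpenMap _ V₁.2
  obtain ⟨O, hO, hpre⟩ := z.isEmbedding.isInducing.isOpen_iff.1 hk
  have hr : Set.range (k ≫ z) = O ∩ closure {x} := by
    rw [show Set.range (k ≫ z) = z '' Set.range k from by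
      rw [← Set.range_comp]; exact congrArg Set.range (funext fun t => Scheme.Hom.comp_apply _ _ _),
      ← hpre, Set.image_preimage_eq_inter_range, hz]
  haveI : IsImmersion k := inferInstanceAs (IsImmersion (g₁ ≫ V.ι ≫ U.ι))
  refine ⟨⟨O, hO⟩, T₁, k ≫ z, inferInstance, ?_, hr, ?_⟩
  · obtain ⟨t, ht⟩ : (⟨genericPoint (U : Scheme.{u}), hηV⟩ : V.toScheme) ∈ Set.range g₁ := by
      rw [hr₁]; exact hxV₁
    have hm : (k ≫ z) t ∈ O ∩ closure {x} := hr ▸ Set.mem_range_self t
    exact ((mem_closure_iff.1 hm.2) O hO hm.1).elim fun y hy => Set.mem_singleton_iff.1 hy.2 ▸ hy.1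
  · refine FLCLib.flc_pull_congr (f := (g₁ ≫ V.ι) ≫ U.ι ≫ z) ?_ ?_
    · simp only [k, Category.assoc]
    · exact (FLCLib.flc_pull_pull_iff _ _).2 ((FLCLib.flc_pull_pull_iff _ _).2 hflc)

end Groth.Agent.FinPushLib
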